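import Cfsg.Agent.H86.BaseThree.Eigen
import Cfsg.Agent.H86.BaseThree.Basic

/-!
Two vectors with trivial common stabiliser for solvable linear groups of order prime to an odd
characteristic: the statements passed between the parts of the proof.

A single pair suffices throughout: if `(x, y)` has trivial stabiliser in a group of order prime to `p`
then the pairs `(x, y + i • x)`, `i < p`, lie in different orbits as soon as `x ≠ 0`.
-/

set_option autoImplicit false
set_option linter.unusedSectionVars false

namespace Cfsg.Agent.H86.BaseTwo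

open Cfsg.Agent.H52.RegPair

universe u

/-- Some pair of vectors is fixed only by elements acting trivially. -/
def Reg1 (G V : Type u) [Group G] [AddCommGroup V] [DistribMulAction G V] : Prop :=
  ∃ v w : V, RegVec G V v w

/-- A colouring with three colours fixed only by elements acting trivially. -/
def Colour3 (G Ω : Type*) [Group G] [MulAction G Ω] : Prop :=
  ∃ c : Ω → Fin 3, ∀ g : G, (∀ ω : Ω, c (g • ω) = c ω) → ∀ ω : Ω, g • ω = ω

/-- Solvable groups of order prime to three have such colourings. -/
def ColourAll3 : Prop :=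
  ∀ (G : Type u) [Group G] [Finite G] (Ω : Type u) [MulAction G Ω] [Finite Ω],
    Group.IsSolvable G → ¬ 3 ∣ Nat.card G → Colour3 G Ω

/-- The theorem, for a group of order prime to the exponent of the module. -/
def Main : Prop :=
  ∀ (p : ℕ) [Fact p.Prime], p ≠ 2 → ∀ (G : Type u) [Group G] [Finite G] (V : Type u) [AddCommGroup V]
    [Finite V] [DistribMulAction G V], Group.IsSolvable G → ¬ p ∣ Nat.card G →
      (∀ x : V, p • x = 0) → Reg1 G V

/-- The step for primitive modules. -/
def PrimitiveStep : Prop :=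
  ∀ (p : ℕ) [Fact p.Prime], p ≠ 2 → ∀ (G : Type u) [Group G] [Finite G] (V : Type u) [AddCommGroup V]
    [Finite V] [Nontrivial V] [DistribMulAction G V] [FaithfulSMul G V], Group.IsSolvable G →
      ¬ p ∣ Nat.card G → (∀ x : V, p • x = 0) → Irr G V → ¬ Imprim G V → Reg1 G V

/-- A subset of a group of exponent two which no nontrivial automorphism preserves, and which
detects quadratic functions. -/
def RigidLarge : Prop :=
  ∀ (T : Type u) [CommGroup T] [Finite T], (∀ t : T, t * t = 1) → 32 ≤ Nat.card T →
    ∃ Δ : Finset T, 1 ∉ Δ ∧ Subgroup.closure (Δ : Set T) = ⊤ ∧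
      Subgroup.closure {u : T | u ∈ Δ ∧ Subgroup.closure {v : T | v ∈ Δ ∧ u * v ∈ Δ} = ⊤} = ⊤ ∧
      ∀ π : T ≃* T, (∀ t : T, π t ∈ Δ ↔ t ∈ Δ) → ∀ t : T, π t = t

/-- In small groups of exponent two, a subset which no nontrivial element of a given group of
automorphisms of order prime to three preserves. -/
def RigidSmall : Prop :=
  ∀ (T : Type u) [CommGroup T] [Finite T], (∀ t : T, t * t = 1) → Nat.card T ≤ 16 →
    ∀ P : Subgroup (MulAut T), ¬ 3 ∣ Nat.card P →
      ∃ Δ : Finset T, 1 ∉ Δ ∧ ∀ π ∈ P, (∀ t : T, π t ∈ Δ ↔ t ∈ Δ) → π = 1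

/-- The type of a small symplectic-type model: `width` tensor factors of dimension two, the first one
of quaternion type if `minus`. -/
structure Shape where
  width : ℕ
  minus : Bool

/-- The shapes left to the certificates, by the size of the field. -/
def SmallShape (q : ℕ) (S : Shape) : Prop :=
  (q = 3 ∧ S.minus = false ∧ S.width ∈ ({2, 3, 4} : Finset ℕ)) ∨
    (q = 3 ∧ S.minus = true ∧ S.width = 3) ∨
    (q = 5 ∧ S.minus = false ∧ S.width ∈ ({2, 3, 4} : Finset ℕ))

variable {K : Type u} [Field K]

/-- The sign of a Pauli operator at a coordinate. -/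
def pairing (b z : ℕ) : ℕ := ((List.range 5).countP fun i => b.testBit i && z.testBit i) % 2

/-- The monomial operator `X^a Z^b` on coordinates indexed by `Fin (2 ^ d)`. -/
def pauli (d : ℕ) (a b : Fin (2 ^ d)) (v : Fin (2 ^ d) → K) : Fin (2 ^ d) → K := fun z =>
  (-1 : K) ^ pairing b.1 (z.1 ^^^ a.1) * v ⟨z.1 ^^^ a.1, Nat.xor_lt_two_pow z.2 a.2⟩

/-- The quaternion operator `[[1, 1], [1, -1]]` on the lowest coordinate. -/
def quat (d : ℕ) (hd : 0 < d) (v : Fin (2 ^ d) → K) : Fin (2 ^ d) → K := fun z =>
  v ⟨z.1 ^^^ 1, Nat.xor_lt_two_pow z.2 (Nat.one_lt_two_pow (by omega))⟩ +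
    (-1 : K) ^ (z.1 % 2) * v z

variable {G : Type u} [Group G] [Finite G] {V : Type u} [AddCommGroup V] [DistribMulAction G V]
  [Finite V] [Nontrivial V] [FaithfulSMul G V] [Finite K] [Module K V]

/-- A coordinate system in which the layer acts by the standard operators: the monomial ones, and for
the quaternion type those with lowest bit `(1, 1)` (that is `[[0, -1], [1, 0]]`) together with `quat`. -/
structure Model (L : BaseThree.Layer G V K) (S : Shape) where
  Φ : (Fin (2 ^ S.width) → K) →ₗ[K] V
  injective : Function.Injective Φ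
  pauli_mem : ∀ a b : Fin (2 ^ S.width), (S.minus = true → a.1 % 2 = b.1 % 2) →
    ∃ e ∈ L.E, ∃ c : K, c ≠ 0 ∧ ∀ v, e • Φ v = c • Φ (pauli S.width a b v)
  quat_mem : S.minus = true → ∀ hd : 0 < S.width,
    ∃ e ∈ L.E, ∃ c : K, c ≠ 0 ∧ ∀ v, e • Φ v = c • Φ (quat S.width hd v)
  surjective : ∀ e ∈ L.E, ∃ (a b : Fin (2 ^ S.width)) (j : Bool) (c : K),
    (S.minus = true → a.1 % 2 = b.1 % 2) ∧ (j = true → S.minus = true) ∧
    ∀ v, e • Φ v = c • Φ (pauli S.width a b (if h : 0 < S.width ∧ j = true then quat S.width h.1 v else v))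

/-- The certificates: a small model has a regular pair. -/
def SmallModels : Prop :=
  ∀ (p : ℕ) [Fact p.Prime] (G : Type u) [Group G] [Finite G] (V : Type u) [AddCommGroup V] [Finite V]
    [Nontrivial V] [DistribMulAction G V] [FaithfulSMul G V] (K : Type u) [Field K] [Finite K]
    [Module K V] (L : BaseThree.Layer G V K) (S : Shape), ¬ p ∣ Nat.card G → Nat.card K = p →
      SmallShape p S → Nonempty (Model L S) → Reg1 G V

end Cfsg.Agent.H86.BaseTwo
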