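import Cfsg.Agent.H86.BaseTwo.Setup

/-!
The action of a vector stabiliser on the cosets of a line centraliser, and powers of the commutator
scalars of a layer.
-/

set_option autoImplicit false
set_option linter.unusedSectionVars false
set_option linter.style.haveILetI false

namespace Cfsg.Agent.H86.BaseTwo

open Cfsg.Agent.H86.BaseThree

universe u

variable {G : Type u} [Group G] [Finite G] {V : Type u} [AddCommGroup V] [DistribMulAction G V]
  [Finite V] [Nontrivial V] [FaithfulSMul G V] {K : Type u} [Field K] [Finite K] [Module K V]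
  (L : Layer G V K)

/-- The scalar of a power. -/
theorem chi_pow_right {a e : G} (ha : a ∈ L.E) (he : e ∈ L.E) (j : ℕ) (v : V) :
    a • e ^ j • v = L.chi a e ^ j • e ^ j • a • v := by
  induction j generalizing v with
  | zero => simp
  | succ j ih =>
    rw [pow_succ', mul_smul, L.chi_smul ha he, ih, L.linear e he, smul_smul, ← pow_succ',
      mul_smul e (e ^ j) (a • v)]

/-- The scalar of a power on the other side. -/
theorem chi_pow_left {a e : G} (ha : a ∈ L.E) (he : e ∈ L.E) (j : ℕ) (v : V) :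
    a ^ j • e • v = L.chi a e ^ j • e • a ^ j • v := by
  induction j generalizing v with
  | zero => simp
  | succ j ih =>
    rw [pow_succ', mul_smul, ih, L.linear a ha, L.chi_smul ha he, smul_smul, ← pow_succ, mul_smul]

theorem chi_pow_eq_one_right {a e : G} (ha : a ∈ L.E) (he : e ∈ L.E) {l : ℕ} (hl : e ^ l ∈ L.U) :
    L.chi a e ^ l = 1 := by
  obtain ⟨v, hv⟩ := exists_ne (0 : V)
  have h := chi_pow_right L ha he l v
  rw [← mul_smul a, ← L.commute_U hl ha, mul_smul] at h
  have hne : e ^ l • a • v ≠ 0 := by rw [Ne, smul_eq_zero_iff_eq, smul_eq_zero_iff_eq]; exact hv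
  exact (smul_left_injective K hne ((one_smul K _).trans h)).symm

theorem chi_pow_eq_one_left {a e : G} (ha : a ∈ L.E) (he : e ∈ L.E) {l : ℕ} (hl : a ^ l ∈ L.U) :
    L.chi a e ^ l = 1 := by
  obtain ⟨v, hv⟩ := exists_ne (0 : V)
  have h := chi_pow_left L ha he l v
  rw [← mul_smul (a ^ l), L.commute_U hl he, mul_smul] at h
  have hne : e • a ^ l • v ≠ 0 := by rw [Ne, smul_eq_zero_iff_eq, smul_eq_zero_iff_eq]; exact hv
  exact (smul_left_injective K hne ((one_smul K _).trans h)).symm

theorem chi_mul_left {a b e : G} (ha : a ∈ L.E) (hb : b ∈ L.E) (he : e ∈ L.E) :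
    L.chi (a * b) e = L.chi a e * L.chi b e := by
  obtain ⟨v, hv⟩ := exists_ne (0 : V)
  have h := L.chi_smul (L.E.mul_mem ha hb) he v
  rw [mul_smul a b (e • v), L.chi_smul hb he, L.linear a ha, L.chi_smul ha he, smul_smul,
    ← mul_smul a b v, mul_comm] at h
  have hne : e • (a * b) • v ≠ 0 := by rw [Ne, smul_eq_zero_iff_eq, smul_eq_zero_iff_eq]; exact hv
  exact (smul_left_injective K hne h).symm

/-- The scalars are a normal subgroup. -/
theorem U_conj_mem {u : G} (hu : u ∈ L.U) (g : G) : g * u * g⁻¹ ∈ L.U := by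
  refine L.center_le _ (L.E_normal.conj_mem u (L.U_le hu) g) fun y hy => ?_
  have hy' : g⁻¹ * y * g ∈ L.E := by simpa using L.E_normal.conj_mem y hy g⁻¹
  have h := L.commute_U hu hy'
  calc g * u * g⁻¹ * y = g * (u * (g⁻¹ * y * g)) * g⁻¹ := by group
    _ = y * (g * u * g⁻¹) := by rw [h]; group

variable {L} {x : V}

theorem lineStab_conj {g : G} (hg : g • x = x) {a : G} (ha : a ∈ L.lineStab x) :
    g * a * g⁻¹ ∈ L.lineStab x := by
  obtain ⟨haE, k, hk⟩ := ha
  refine ⟨L.E_normal.conj_mem a haE g, L.σ g k, ?_⟩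
  rw [mul_smul, mul_smul, inv_smul_eq_iff.2 hg.symm, hk, L.smul_σ, hg]

theorem lineCent_conj {g : G} (hg : g • x = x) {t : G} (ht : t ∈ L.lineCent x) :
    g * t * g⁻¹ ∈ L.lineCent x := by
  refine ⟨L.E_normal.conj_mem t ht.1 g, Subgroup.mem_centralizer_iff.2 fun a ha => ?_⟩
  have h' : g⁻¹ * a * g ∈ L.lineStab x := by
    simpa using lineStab_conj (g := g⁻¹) (inv_smul_eq_iff.2 hg.symm) ha
  have hc := L.commute_lineCent ht h'
  calc a * (g * t * g⁻¹) = g * (g⁻¹ * a * g * t) * g⁻¹ := by group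
    _ = g * t * g⁻¹ * a := by rw [hc]; group

variable (C : Cosets L x)

theorem Cosets.cls_eq_iff {e f : L.E} :
    C.cls e = C.cls f ↔ (f : G)⁻¹ * e ∈ L.lineCent x := by
  rw [show (f : G)⁻¹ * e = ((f⁻¹ * e : L.E) : G) by simp, ← C.cls_eq_one, map_mul, map_inv,
    inv_mul_eq_one, eq_comm]

theorem Cosets.sep (t t' : C.T) (h : t ≠ t') : (C.r t')⁻¹ * C.r t ∉ L.lineCent x := fun hc =>
  h (by rw [← C.cls_rep t, ← C.cls_rep t', C.cls_eq_iff]; exact hc)

/-- An element fixing the vector permutes the cosets by an automorphism. -/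
theorem Cosets.exists_perm (g : G) (hg : g • x = x) :
    ∃ π : C.T ≃* C.T, ∀ (e : G) (he : e ∈ L.E),
      C.cls ⟨g * e * g⁻¹, L.E_normal.conj_mem e he g⟩ = π (C.cls ⟨e, he⟩) := by
  haveI := L.E_normal
  let cg : L.E ≃* L.E := MulAut.conjNormal g
  have hcg : ∀ e : L.E, ((cg e : L.E) : G) = g * e * g⁻¹ := fun e => MulAut.conjNormal_apply g e
  let π₀ : C.T → C.T := fun t => C.cls (cg (C.rep t))
  have hπ : ∀ e : L.E, C.cls (cg e) = π₀ (C.cls e) := by
    intro e
    rw [C.cls_eq_iff, hcg, hcg]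
    have h := lineCent_conj hg (C.cls_eq_iff.1 (C.cls_rep (C.cls e)).symm)
    simpa [mul_assoc] using h
  let f : C.T →* C.T := MonoidHom.mk' π₀ fun a b => by
    have h : C.cls (C.rep a * C.rep b) = a * b := by rw [map_mul, C.cls_rep, C.cls_rep]
    rw [← h, ← hπ, map_mul cg, map_mul]
  have hinj : Function.Injective f := by
    rw [injective_iff_map_eq_one]
    intro t ht
    change C.cls (cg (C.rep t)) = 1 at ht
    rw [C.cls_eq_one, hcg] at ht
    rw [← C.cls_rep t, C.cls_eq_one]
    have h := lineCent_conj (g := g⁻¹) (inv_smul_eq_iff.2 hg.symm) ht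
    simpa [mul_assoc] using h
  refine ⟨MulEquiv.ofBijective f (Finite.injective_iff_bijective.1 hinj), fun e he => ?_⟩
  have h := hπ ⟨e, he⟩
  have h2 : (⟨g * e * g⁻¹, L.E_normal.conj_mem e he g⟩ : L.E) = cg ⟨e, he⟩ :=
    Subtype.ext (hcg ⟨e, he⟩).symm
  rw [h2, h]
  rfl

/-- An abelian group of squarefree exponent is generated by its elements of prime order. -/
theorem mem_closure_prime {T : Type*} [CommGroup T] (hsq : ∀ t : T, Squarefree (orderOf t))
    (t : T) : t ∈ Subgroup.closure {s : T | (orderOf s).Prime} := by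
  induction hn : orderOf t using Nat.strong_induction_on generalizing t with
  | _ n ih =>
    rcases eq_or_ne n 1 with rfl | hn1
    · rw [orderOf_eq_one_iff.1 hn]; exact one_mem _
    obtain ⟨p, hp, m, rfl⟩ := Nat.exists_prime_and_dvd hn1
    rcases eq_or_ne m 1 with rfl | hm1
    · rw [mul_one] at hn
      exact Subgroup.subset_closure (show (orderOf t).Prime from hn ▸ hp)
    have hpm : Nat.Coprime p m := Nat.coprime_of_squarefree_mul (hn ▸ hsq t)
    have hm0 : m ≠ 0 := by
      rintro rfl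
      exact (hn ▸ hsq t).ne_zero (mul_zero p)
    have hop : orderOf (t ^ p) = m := by
      rw [orderOf_pow' t hp.ne_zero, hn, Nat.gcd_mul_right_left, Nat.mul_div_cancel_left m hp.pos]
    have hom : orderOf (t ^ m) = p := by
      rw [orderOf_pow' t hm0, hn, Nat.gcd_mul_left_left,
        Nat.mul_div_cancel p (Nat.pos_of_ne_zero hm0)]
    have h1 := ih m (lt_mul_of_one_lt_left (Nat.pos_of_ne_zero hm0) hp.one_lt) (t ^ p) hop
    have h2 : t ^ m ∈ Subgroup.closure {s : T | (orderOf s).Prime} :=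
      Subgroup.subset_closure (show (orderOf (t ^ m)).Prime from hom.symm ▸ hp)
    obtain ⟨a, b, hab⟩ : ∃ a b : ℤ, a * p + b * m = 1 :=
      ⟨_, _, by
        have := Nat.gcd_eq_gcd_ab p m
        rw [hpm.gcd_eq_one] at this
        rw [mul_comm (Nat.gcdA p m), mul_comm (Nat.gcdB p m)]
        exact_mod_cast this.symm⟩
    have h3 := mul_mem (zpow_mem h1 a) (zpow_mem h2 b)
    rwa [← zpow_natCast t p, ← zpow_natCast t m, ← zpow_mul, ← zpow_mul, mul_comm (p : ℤ),
      mul_comm (m : ℤ), ← zpow_add, hab, zpow_one] at h3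

theorem Cosets.squarefree_order (t : C.T) : Squarefree (orderOf t) := by
  obtain ⟨N, hN, hU⟩ := L.squarefree _ (C.rep t).2
  refine hN.squarefree_of_dvd (orderOf_dvd_of_pow_eq_one ?_)
  rw [← C.cls_rep t, ← map_pow, C.cls_eq_one]
  rw [SubgroupClass.coe_pow]
  exact ⟨L.U_le hU, Subgroup.mem_centralizer_iff.2 fun a ha =>
    (L.commute_U hU (L.lineStab_le x ha)).symm⟩

end Cfsg.Agent.H86.BaseTwo
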