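import Cfsg.Agent.H86.BaseTwo.Action

/-!
A regular pair for a primitive group from one part for each prime.
-/

set_option autoImplicit false
set_option linter.unusedSectionVars false
set_option linter.style.haveILetI false

namespace Cfsg.Agent.H86.BaseTwo

open Cfsg.Agent.H86.BaseThree Cfsg.Agent.H52.RegPair

universe u

variable {G : Type u} [Group G] [Finite G] {V : Type u} [AddCommGroup V] [DistribMulAction G V]
  [Finite V] [Nontrivial V] [FaithfulSMul G V] {K : Type u} [Field K] [Finite K] [Module K V]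
  {L : Layer G V K}

/-- The part of the second vector in the eigenspace of the first. -/
theorem exists_zero_point (F : Frame L) (hq : Odd (Nat.card K)) :
    ∃ (γ : K) (ρ₀ : G), ρ₀ ∈ L.lineCent F.x ∧ ∀ g : G, g • F.x = F.x →
      g • (γ • ρ₀ • F.x) = γ • ρ₀ • F.x →
      (∀ k : K, L.σ g k = k) ∧ ∀ ρ ∈ L.lineCent F.x, g • ρ • F.x = ρ • F.x := by
  classical
  haveI := Fintype.ofFinite K
  obtain ⟨u, hu⟩ := IsCyclic.exists_monoid_generator (α := Kˣ)
  have hσid : ∀ g : G, L.σ g (u : K) = u → ∀ k, L.σ g k = k := by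
    intro g hg k
    rcases eq_or_ne k 0 with rfl | hk
    · exact map_zero _
    obtain ⟨m, hm⟩ := Submonoid.mem_powers_iff _ _ |>.1 (hu (Units.mk0 k hk))
    have : k = (u : K) ^ m := by rw [← Units.val_pow_eq_pow_val, hm, Units.val_mk0]
    rw [this, map_pow, hg]
  set x := F.x with hxdef
  have hx : Function.Injective (fun k : K => k • x) := smul_left_injective K F.ne_zero
  rcases F.split with hsc | ⟨r, hr, -, hrr, -, hplane, -, hns, -⟩
  · refine ⟨u, 1, one_mem _, fun g hg h => ?_⟩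
    rw [one_smul, L.smul_σ, hg] at h
    have hσ := hσid g (hx h)
    refine ⟨hσ, fun ρ hρ => ?_⟩
    obtain ⟨k, hk⟩ := hsc ρ hρ
    rw [hk, L.smul_σ, hσ, hg]
  obtain ⟨a, ha⟩ := hrr.2
  have hna : ¬ IsSquare a := hns a (by rw [← mul_smul, ha])
  have ha0 : a ≠ 0 := fun h => hna (h ▸ IsSquare.zero)
  have hchar : ringChar K ≠ 2 := fun h => by
    have := (FiniteField.even_card_iff_char_two.1 h : Fintype.card K % 2 = 0)
    rw [Nat.odd_iff, Nat.card_eq_fintype_card] at hq
    omega
  -- the product with the square of the coefficient is a generator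
  have hnu : ¬ IsSquare (u : K) := by
    intro hsq
    obtain ⟨b, hb⟩ := FiniteField.exists_nonsquare hchar
    have hb0 : b ≠ 0 := fun h => hb (h ▸ IsSquare.zero)
    obtain ⟨m, hm⟩ := Submonoid.mem_powers_iff _ _ |>.1 (hu (Units.mk0 b hb0))
    refine hb ?_
    have : b = (u : K) ^ m := by rw [← Units.val_pow_eq_pow_val, hm, Units.val_mk0]
    rw [this]
    exact hsq.pow m
  obtain ⟨γ, hγ⟩ : IsSquare (a⁻¹ * (u : K)) := by
    have h1 := mul_ne_zero (inv_ne_zero ha0) u.ne_zero
    rw [← quadraticChar_one_iff_isSquare h1, map_mul,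
      quadraticChar_neg_one_iff_not_isSquare.2 hnu,
      quadraticChar_neg_one_iff_not_isSquare.2 (fun h => hna (by simpa using h.inv))]
    norm_num
  have haγ : a * (γ * γ) = u := by rw [← hγ, mul_inv_cancel_left₀ ha0]
  refine ⟨γ, r, hr, fun g hg h => ?_⟩
  have hγ0 : γ ≠ 0 := fun h0 => u.ne_zero (by rw [← haγ, h0, mul_zero, mul_zero])
  set y := r • x with hy
  rw [L.smul_σ] at h
  have hσγ : L.σ g γ ≠ 0 := fun h0 => hγ0 ((L.σ g).injective (h0.trans (map_zero _).symm))
  set l : K := (L.σ g γ)⁻¹ * γ with hl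
  have hgy : g • y = l • y := by rw [hl, ← smul_smul, ← h, inv_smul_smul₀ hσγ]
  have hginv : g⁻¹ • x = x := inv_smul_eq_iff.2 hg.symm
  set r' := g * r * g⁻¹ with hr'
  have hr'x : r' • x = l • y := by rw [hr', mul_smul, mul_smul, hginv, ← hy, hgy]
  have hαx : (r⁻¹ * r') • x = l • x := by
    rw [mul_smul, hr'x, hy, L.linear r⁻¹ (L.E.inv_mem hr.1), inv_smul_smul]
  have hα : r⁻¹ * r' ∈ L.lineStab x :=
    ⟨L.E.mul_mem (L.E.inv_mem hr.1) (L.E_normal.conj_mem r hr.1 g), l, hαx⟩
  have h1' : r' • y = (l * a) • x := by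
    rw [show r' = r * (r⁻¹ * r') by group, hy, ← mul_smul, mul_assoc,
      L.commute_lineCent hr hα, ← mul_assoc, mul_smul, hαx,
      L.linear _ (L.E.mul_mem hr.1 hr.1), ha, smul_smul]
  have h2' : L.σ g a • x = (l * (l * a)) • x := by
    calc L.σ g a • x = g • (a • x) := by rw [L.smul_σ, hg]
      _ = g • r • r • x := by rw [← mul_smul r r, ha]
      _ = r' • g • r • x := by rw [hr']; simp [← mul_smul, mul_assoc]
      _ = r' • (l • y) := by rw [← hy, hgy]
      _ = l • r' • y := L.linear r' (L.E_normal.conj_mem r hr.1 g) l y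
      _ = _ := by rw [h1', smul_smul]
  have hσ : ∀ k, L.σ g k = k := by
    refine hσid g ?_
    rw [← haγ, map_mul, map_mul, hx h2', hl]
    field_simp
  refine ⟨hσ, fun ρ hρ => ?_⟩
  obtain ⟨k, m, hkm⟩ := hplane ρ hρ
  have hgy' : g • y = y := by rw [hgy, hl, hσ, inv_mul_cancel₀ hγ0, one_smul]
  rw [hkm, smul_add, L.smul_σ, L.smul_σ, hσ, hσ, hg, hgy']

/-- A regular pair from the parts and a point in the first eigenspace. -/
theorem reg1_aux {x : V} (hx : x ≠ 0) (C : Cosets L x)
    (hparts : ∀ l : ℕ, l.Prime → (∃ t : C.T, orderOf t = l) → Nonempty (Part C l))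
    {γ : K} {ρ₀ : G} (hρ₀ : ρ₀ ∈ L.lineCent x)
    (hzero : ∀ g : G, g • x = x → g • (γ • ρ₀ • x) = γ • ρ₀ • x →
      (∀ k : K, L.σ g k = k) ∧ ∀ ρ ∈ L.lineCent x, g • ρ • x = ρ • x) :
    Reg1 G V := by
  classical
  let P : ∀ l : ℕ, l.Prime → (∃ t : C.T, orderOf t = l) → Part C l := fun l h1 h2 =>
    Classical.choice (hparts l h1 h2)
  let W : C.T → V := fun t => if h : (orderOf t).Prime then (P _ h ⟨t, rfl⟩).w t
    else if t = 1 then γ • ρ₀ • x else 0
  have hW : ∀ (t : C.T) (l : ℕ) (hl : l.Prime) (he : ∃ s : C.T, orderOf s = l), orderOf t = l →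
      W t = (P l hl he).w t := by
    intro t l hl he ht
    subst ht
    simp only [W, dif_pos hl]
  have h11 : ¬ (orderOf (1 : C.T)).Prime := by rw [orderOf_one]; exact Nat.not_prime_one
  have hr1 : C.r 1 ∈ L.lineCent x := (C.cls_eq_one (C.rep 1)).1 (C.cls_rep 1)
  have hWmem : ∀ t, W t ∈ L.eig x (C.r t) := by
    intro t
    simp only [W]
    split_ifs with h1 h2
    · exact (P _ h1 ⟨t, rfl⟩).mem t
    · subst h2
      exact Submodule.smul_mem _ _ (L.orbit_mem_eig_of_class hρ₀.1
        ((L.lineCent x).mul_mem ((L.lineCent x).inv_mem hr1) hρ₀))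
    · exact Submodule.zero_mem _
  refine ⟨x, ∑ t, W t, fun g hg hgY v => ?_⟩
  have hginv : g⁻¹ • x = x := inv_smul_eq_iff.2 hg.symm
  obtain ⟨π, hπ⟩ := C.exists_perm g hg
  -- components go to components
  have hgmem : ∀ t, g • W t ∈ L.eig x (C.r (π t)) := by
    intro t a ha k hk
    have hagx : (g⁻¹ * a * g) ∈ L.lineStab x := by
      simpa using lineStab_conj (g := g⁻¹) hginv ha
    obtain ⟨k', hk'⟩ := hagx.2
    have h1 := hWmem t _ hagx k' hk'
    have hkk : L.σ g k' = k := by
      refine smul_left_injective K hx ?_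
      show L.σ g k' • x = k • x
      have := congrArg (g • ·) hk'
      simp only [L.smul_σ, hg] at this
      rw [← hk, ← this, ← mul_smul, ← mul_assoc, mul_inv_cancel_left, mul_smul, hg]
    have h2 := congrArg (g • ·) h1
    simp only [L.smul_σ, map_mul, hkk] at h2
    rw [← mul_smul, ← mul_assoc, mul_inv_cancel_left, mul_smul] at h2
    rw [h2]
    congr 2
    -- the scalar of the commutator is carried along
    have hr' : g * C.r t * g⁻¹ ∈ L.E := L.E_normal.conj_mem _ (C.r_mem t) g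
    rw [L.chi_eq_of_class ha (f := g * C.r t * g⁻¹) (by
      refine (C.cls_eq_iff (e := C.rep (π t)) (f := ⟨_, hr'⟩)).1 ?_
      rw [C.cls_rep, hπ _ (C.r_mem t)]
      exact congrArg π (C.cls_rep t).symm)]
    refine smul_left_injective K hx (smul_left_cancel (g * C.r t * g⁻¹) ?_)
    have h3 := congrArg (g • ·) (L.chi_smul hagx.1 (C.r_mem t) (g⁻¹ • x))
    simp only [L.smul_σ] at h3
    have h4 : g • (g⁻¹ * a * g) • C.r t • g⁻¹ • x = a • (g * C.r t * g⁻¹) • x := by
      simp [← mul_smul, mul_assoc]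
    have h5 : g • C.r t • (g⁻¹ * a * g) • g⁻¹ • x = (g * C.r t * g⁻¹) • a • x := by
      simp [← mul_smul, mul_assoc]
    rw [h4, h5, L.chi_smul ha.1 hr', hk, L.linear _ hr', smul_smul] at h3
    simp only [L.linear _ hr', smul_smul] at h3 ⊢
    have hk0 : k ≠ 0 := fun h => hx (by
      rw [h, zero_smul, smul_eq_zero_iff_eq] at hk; exact hk)
    have hne : (g * C.r t * g⁻¹) • x ≠ 0 := by rw [Ne, smul_eq_zero_iff_eq]; exact hx
    rw [mul_right_cancel₀ hk0 (smul_left_injective K hne h3)]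
  have hD : ∀ t, g • W t = W (π t) := by
    intro t
    have hsum : ∑ s, (g • W (π.symm s) - W s) = 0 := by
      rw [Finset.sum_sub_distrib, sub_eq_zero]
      calc ∑ s, g • W (π.symm s) = ∑ s, g • W s :=
            Equiv.sum_comp π.symm.toEquiv fun s => g • W s
        _ = g • ∑ s, W s := (Finset.smul_sum).symm
        _ = _ := hgY
    have := L.eig_independent hx C.r C.r_mem C.sep Finset.univ _ (fun s _ =>
      Submodule.sub_mem _ (by simpa using hgmem (π.symm s)) (hWmem s)) hsum (π t) (Finset.mem_univ _)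
    simpa [sub_eq_zero] using this
  obtain ⟨hσ, hplane⟩ := hzero g hg (by
    have h := hD 1
    simp only [map_one, W, dif_neg h11, if_true] at h
    exact h)
  have hM : Moves C g π := ⟨hg, hσ, hplane, hπ⟩
  -- the parts
  have hpart : ∀ (l : ℕ) (hl : l.Prime) (he : ∃ s : C.T, orderOf s = l) (t : C.T), orderOf t = l →
      g • (P l hl he).w t = (P l hl he).w (π t) := fun l hl he t ht => by
    rw [← hW t l hl he ht, ← hW (π t) l hl he (by rw [MulEquiv.orderOf_eq, ht]), hD]
  have hπid : ∀ t, π t = t := by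
    intro t
    have h := MonoidHom.eqOn_closure (f := π.toMonoidHom) (g := MonoidHom.id C.T)
      (s := {s : C.T | (orderOf s).Prime})
      (fun s hs => (P _ hs ⟨s, rfl⟩).rigid g π hM (hpart _ hs ⟨s, rfl⟩) s rfl)
      (mem_closure_prime C.squarefree_order t)
    exact h
  -- deviations
  let Fix : G → Prop := fun e => e ∈ L.E ∧ (g * e * g⁻¹) • x = e • x
  let dev : G → G := fun e => e⁻¹ * (g * e * g⁻¹)
  have hconjx : ∀ e : G, (g * e * g⁻¹) • x = g • e • x := fun e => by
    rw [mul_smul, mul_smul, hginv]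
  have hdev : ∀ e, Fix e → dev e ∈ L.lineStab x ∧ dev e • x = x := by
    rintro e ⟨he, hex⟩
    have hfx : dev e • x = x := by rw [mul_smul, hex, inv_smul_smul]
    exact ⟨⟨L.E.mul_mem (L.E.inv_mem he) (L.E_normal.conj_mem e he g), 1, by rw [one_smul, hfx]⟩,
      hfx⟩
  have hfixR : ∀ ρ ∈ L.lineCent x, Fix ρ := fun ρ hρ =>
    ⟨hρ.1, by rw [hconjx]; exact hplane ρ hρ⟩
  have hfixmul : ∀ e, Fix e → ∀ t ∈ L.lineCent x, Fix (e * t) := by
    intro e he t ht
    refine ⟨L.E.mul_mem he.1 ht.1, ?_⟩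
    obtain ⟨h1, h2⟩ := hdev e he
    have : g * (e * t) * g⁻¹ = e * dev e * (g * t * g⁻¹) := by simp only [dev]; group
    rw [this, mul_smul, (hfixR t ht).2, ← mul_smul, mul_assoc, L.commute_lineCent ht h1,
      ← mul_assoc, mul_smul, h2]
  have hfixcls : ∀ e : L.E, Fix (C.r (C.cls e)) → Fix (e : G) := by
    intro e h
    have h' := hfixmul _ h _ (C.mem_of_cls_eq e.2 rfl)
    rwa [mul_inv_cancel_left] at h'
  have hdevcomm : ∀ e f : G, Fix e → Fix f → Fix (e * f) → dev e * f = f * dev e := by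
    intro e f he hf hef
    obtain ⟨hdA, hdx⟩ := hdev e he
    refine L.commute_of_chi_eq_one hdA.1 hf.1 ?_
    have h1 : dev e • f • x = f • x := by
      have h2 := hef.2
      have h3 : g * (e * f) * g⁻¹ = e * dev e * (f * dev f) := by simp only [dev]; group
      rw [h3, mul_smul, mul_smul f, (hdev f hf).2, mul_smul, mul_smul] at h2
      refine smul_left_cancel e ?_
      simp only [dev, mul_smul] at h2 ⊢
      exact h2
    rw [L.chi_smul hdA.1 hf.1, hdx] at h1
    have hne : f • x ≠ 0 := by rw [Ne, smul_eq_zero_iff_eq]; exact hx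
    exact smul_left_injective K hne (h1.trans (one_smul K _).symm)
  choose Φ Gen hsub hclos hGen hfixed using fun (l : ℕ) (hl : l.Prime)
    (he : ∃ s : C.T, orderOf s = l) => (P l hl he).fixed
  have hΦ : ∀ l hl he, ∀ t ∈ Φ l hl he, Fix (C.r t) := fun l hl he t ht =>
    ⟨C.r_mem t, by
      rw [hconjx]
      exact hfixed l hl he g π hM hπid (fun s hs => by rw [hpart l hl he s hs, hπid]) t ht⟩
  -- elements commuting with the deviations
  have hcentral : ∀ e : G, Fix e → (∀ t : C.T, (orderOf t).Prime →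
      ∃ f : L.E, C.cls f = t ∧ dev e * (f : G) = f * dev e) → g * e = e * g := by
    intro e he hgen
    obtain ⟨hdA, hdx⟩ := hdev e he
    let H : Subgroup L.E := (Subgroup.centralizer ({dev e} : Set G)).subgroupOf L.E
    have hH : ∀ f : L.E, f ∈ H ↔ dev e * (f : G) = f * dev e := fun f => by
      simp only [H, Subgroup.mem_subgroupOf, Subgroup.mem_centralizer_iff, Set.mem_singleton_iff,
        forall_eq]
    have hker : ∀ f : L.E, C.cls f = 1 → f ∈ H := fun f hf =>
      (hH f).2 (L.commute_lineCent ((C.cls_eq_one f).1 hf) hdA)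
    have hall : ∀ f : L.E, f ∈ H := by
      intro f
      obtain ⟨f', hf', hff⟩ : C.cls f ∈ H.map C.cls :=
        Subgroup.closure_le _ |>.2 (fun t ht => by
          obtain ⟨f₀, h1, h2⟩ := hgen t ht
          exact ⟨f₀, (hH f₀).2 h2, h1⟩) (mem_closure_prime C.squarefree_order (C.cls f))
      rw [← mul_inv_cancel_left f' f]
      exact H.mul_mem hf' (hker _ (by rw [map_mul, map_inv, hff, inv_mul_cancel]))
    have hdU := L.center_le _ hdA.1 fun z hz => (hH ⟨z, hz⟩).1 (hall _)
    have h1 : dev e = 1 := by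
      have h2 := L.smul_ι ⟨_, hdU⟩ x
      rw [hdx] at h2
      have h3 : L.ι ⟨_, hdU⟩ = 1 :=
        Units.ext (smul_left_injective K hx (h2.symm.trans (one_smul K x).symm))
      exact congrArg Subtype.val ((map_eq_one_iff L.ι L.ι_injective).1 h3)
    calc g * e = e * dev e * g := by simp only [dev]; group
      _ = e * g := by rw [h1, mul_one]
  have hcR : ∀ ρ ∈ L.lineCent x, g * ρ = ρ * g := by
    intro ρ hρ
    refine hcentral ρ (hfixR ρ hρ) fun t ht => ?_
    set H : Subgroup L.E := (Subgroup.centralizer ({dev ρ} : Set G)).subgroupOf L.E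
    have hmem : t ∈ H.map C.cls := by
      refine Subgroup.closure_le _ |>.2 ?_ (hclos _ ht ⟨t, rfl⟩ t rfl)
      intro v hv
      refine ⟨C.rep v, ?_, C.cls_rep v⟩
      have hfv := hΦ _ ht ⟨t, rfl⟩ v (hsub _ ht ⟨t, rfl⟩ hv)
      have hρv : Fix (ρ * C.r v) := by
        refine hfixcls (⟨ρ, hρ.1⟩ * C.rep v) ?_
        rw [map_mul, (C.cls_eq_one ⟨ρ, hρ.1⟩).2 hρ, one_mul, C.cls_rep]
        exact hfv
      simp only [H, SetLike.mem_coe, Subgroup.mem_subgroupOf, Subgroup.mem_centralizer_iff,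
        Set.mem_singleton_iff, forall_eq]
      exact hdevcomm ρ _ (hfixR ρ hρ) hfv hρv
    obtain ⟨f, hf, hft⟩ := hmem
    refine ⟨f, hft, ?_⟩
    simpa [H, Subgroup.mem_subgroupOf, Subgroup.mem_centralizer_iff] using hf
  have hcG : ∀ (l : ℕ) (hl : l.Prime) (he : ∃ s : C.T, orderOf s = l), ∀ u ∈ Gen l hl he,
      g * C.r u = C.r u * g := by
    intro l hl he u hu
    obtain ⟨huo, hM'⟩ := hGen l hl he u hu
    have hfu := hΦ l hl he u (hsub l hl he hu)
    obtain ⟨hdA, -⟩ := hdev _ hfu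
    refine hcentral _ hfu fun t ht => ?_
    by_cases htl : orderOf t = l
    · set H : Subgroup L.E := (Subgroup.centralizer ({dev (C.r u)} : Set G)).subgroupOf L.E
      have hmem : t ∈ H.map C.cls := by
        refine Subgroup.closure_le _ |>.2 ?_ (hM' t htl)
        rintro v ⟨hv, hvv⟩
        refine ⟨C.rep v, ?_, C.cls_rep v⟩
        have hfv := hΦ l hl he v hv
        have huv : Fix (C.r u * C.r v) := by
          refine hfixcls (C.rep u * C.rep v) ?_
          rw [map_mul, C.cls_rep, C.cls_rep]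
          rcases hvv with h | h
          · exact hΦ l hl he _ h
          · rw [h]; exact hfixR _ hr1
        simp only [H, SetLike.mem_coe, Subgroup.mem_subgroupOf, Subgroup.mem_centralizer_iff,
          Set.mem_singleton_iff, forall_eq]
        exact hdevcomm _ _ hfu hfv huv
      obtain ⟨f, hf, hft⟩ := hmem
      refine ⟨f, hft, ?_⟩
      simpa [H, Subgroup.mem_subgroupOf, Subgroup.mem_centralizer_iff] using hf
    -- different primes
    refine ⟨C.rep t, C.cls_rep t, L.commute_of_chi_eq_one hdA.1 (C.r_mem t) ?_⟩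
    have hu1 : (C.r u) ^ l ∈ L.U := C.rep_pow u l hl huo
    have hge : (g * C.r u * g⁻¹) ∈ L.E := L.E_normal.conj_mem _ (C.r_mem u) g
    have h1 : L.chi (dev (C.r u)) (C.r t) ^ l = 1 := by
      rw [chi_mul_left L (L.E.inv_mem (C.r_mem u)) hge (C.r_mem t), mul_pow,
        chi_pow_eq_one_left L (L.E.inv_mem (C.r_mem u)) (C.r_mem t)
          (by rw [inv_pow]; exact L.U.inv_mem hu1),
        chi_pow_eq_one_left L hge (C.r_mem t) (by rw [conj_pow]; exact U_conj_mem L hu1 g), one_mul]
    have h2 : L.chi (dev (C.r u)) (C.r t) ^ orderOf t = 1 :=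
      chi_pow_eq_one_right L hdA.1 (C.r_mem t) (C.rep_pow t _ ht rfl)
    have h3 := pow_gcd_eq_one.2 ⟨h1, h2⟩
    rwa [((Nat.coprime_primes hl ht).2 (Ne.symm htl)).gcd_eq_one, pow_one] at h3
  -- the element centralises the layer
  have hgU : g ∈ L.U := by
    refine L.self_centralizing g ?_
    suffices ∀ f : L.E, g * (f : G) = f * g from fun y hy => this ⟨y, hy⟩
    intro f
    let H : Subgroup L.E := (Subgroup.centralizer ({g} : Set G)).subgroupOf L.E
    have hH : ∀ f : L.E, f ∈ H ↔ g * (f : G) = f * g := fun f => by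
      simp only [H, Subgroup.mem_subgroupOf, Subgroup.mem_centralizer_iff, Set.mem_singleton_iff,
        forall_eq]
    obtain ⟨f', hf', hff⟩ : C.cls f ∈ H.map C.cls :=
      Subgroup.closure_le _ |>.2 (fun t ht => by
        exact Subgroup.closure_le _ |>.2 (fun v hv => by
          exact ⟨C.rep v, (hH _).2 (hcG _ ht ⟨t, rfl⟩ v hv), C.cls_rep v⟩)
          (hclos _ ht ⟨t, rfl⟩ t rfl)) (mem_closure_prime C.squarefree_order (C.cls f))
    rw [← hH, ← mul_inv_cancel_left f' f]
    exact H.mul_mem hf' ((hH _).2 (hcR _ ((C.cls_eq_one _).1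
      (by rw [map_mul, map_inv, hff, inv_mul_cancel]))))
  have hg1 : L.ι ⟨g, hgU⟩ = 1 := by
    have h2 := L.smul_ι ⟨g, hgU⟩ x
    rw [hg] at h2
    exact Units.ext (smul_left_injective K hx (h2.symm.trans (one_smul K x).symm))
  rw [show g • v = (L.ι ⟨g, hgU⟩ : K) • v from L.smul_ι ⟨g, hgU⟩ v, hg1, Units.val_one, one_smul]

/-- A regular pair from the parts. -/
theorem reg1_of_parts (F : Frame L) (hq : Odd (Nat.card K)) (C : Cosets L F.x)
    (hparts : ∀ l : ℕ, l.Prime → (∃ t : C.T, orderOf t = l) → Nonempty (Part C l)) :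
    Reg1 G V :=
  let ⟨_, _, hρ₀, hzero⟩ := exists_zero_point F hq
  reg1_aux F.ne_zero C hparts hρ₀ hzero

end Cfsg.Agent.H86.BaseTwo
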