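import Cfsg.Agent.H86.BaseTwo.Action
import Mathlib.GroupTheory.SpecificGroups.Cyclic

/-!
Parts made of multiples of the representatives applied to the vector: a power of the coefficient
times the scalar of a power of the representative is an invariant of the coset.
-/

set_option autoImplicit false
set_option linter.unusedSectionVars false
set_option linter.style.haveILetI false

namespace Cfsg.Agent.H86.BaseTwo

open Cfsg.Agent.H86.BaseThree

universe u

variable {G : Type u} [Group G] [Finite G] {V : Type u} [AddCommGroup V] [DistribMulAction G V]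
  [Finite V] [Nontrivial V] [FaithfulSMul G V] {K : Type u} [Field K] [Finite K] [Module K V]
  {L : Layer G V K} {x : V}

/-- Powers of a product with an element of the line stabiliser. -/
theorem pow_mul_smul_vec {a ρ : G} (ha : a ∈ L.E) (hρ : ρ ∈ L.E) {k : K} (hk : ρ • x = k • x)
    (j : ℕ) : (a * ρ) ^ j • x = (k ^ j * L.chi ρ a ^ Nat.choose j 2) • a ^ j • x := by
  induction j with
  | zero => simp
  | succ j ih =>
    rw [pow_succ', mul_smul, ih, L.linear _ (L.E.mul_mem ha hρ), mul_smul a ρ,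
      chi_pow_right L hρ ha, hk, L.linear _ (L.E.pow_mem ha j), L.linear a ha, L.linear a ha,
      smul_smul, smul_smul, ← mul_smul a (a ^ j) x, ← pow_succ', Nat.choose_succ_succ',
      Nat.choose_one_right]
    congr 1
    ring

open Classical in
/-- The scalar of the power of a representative. -/
noncomputable def lam (C : Cosets L x) (l : ℕ) (t : C.T) : Kˣ :=
  if h : C.r t ^ l ∈ L.U then L.ι ⟨_, h⟩ else 1

theorem lam_smul (C : Cosets L x) {l : ℕ} (hl : l.Prime) {t : C.T} (ht : orderOf t = l) (v : V) :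
    C.r t ^ l • v = (lam C l t : K) • v := by
  rw [lam, dif_pos (show C.r t ^ l ∈ L.U from C.rep_pow t l hl ht)]
  exact L.smul_ι ⟨_, _⟩ v

/-- A part from a colouring with few colours. -/
theorem exists_part_of_colour (hx : x ≠ 0) (C : Cosets L x) {l : ℕ} (hl : l.Prime) (e : ℕ)
    (he : l ∣ Nat.choose l 2 * e) {n : ℕ}
    (hn : n ≤ Nat.card (powMonoidHom (α := Kˣ) (l * e)).range) (κ : C.T → Option (Fin n))
    (hrigid : ∀ (g : G) (π : C.T ≃* C.T), Moves C g π →
      (∀ t : C.T, orderOf t = l → κ (π t) = κ t) → ∀ t : C.T, orderOf t = l → π t = t)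
    (Gen : Set C.T) (hGen : ∀ u ∈ Gen, orderOf u = l ∧ κ u ≠ none)
    (hclos : ∀ t : C.T, orderOf t = l → t ∈ Subgroup.closure Gen)
    (hpair : ∀ u ∈ Gen, ∀ t : C.T, orderOf t = l → t ∈ Subgroup.closure
      {v : C.T | (orderOf v = l ∧ κ v ≠ none) ∧
        ((orderOf (u * v) = l ∧ κ (u * v) ≠ none) ∨ u * v = 1)}) :
    Nonempty (Part C l) := by
  classical
  haveI := Fintype.ofFinite K
  set P := (powMonoidHom (α := Kˣ) (l * e)).range with hP
  haveI : Fintype P := Fintype.ofFinite P
  obtain ⟨f⟩ : Nonempty (Fin n ↪ P) := Function.Embedding.nonempty_of_card_le (by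
    rw [Fintype.card_fin, ← Nat.card_eq_fintype_card]; exact hn)
  let o : Kˣ → Kˣ := fun a => (QuotientGroup.mk a : Kˣ ⧸ P).out
  have ho : ∀ a, (QuotientGroup.mk (o a) : Kˣ ⧸ P) = QuotientGroup.mk a :=
    fun a => QuotientGroup.out_eq' _
  have hch : ∀ (t : C.T) (i : Fin n), ∃ c : Kˣ,
      c ^ (l * e) * lam C l t ^ e = o (lam C l t ^ e) * f i := by
    intro t i
    have h : (lam C l t ^ e)⁻¹ * o (lam C l t ^ e) * f i ∈ P :=
      P.mul_mem (QuotientGroup.eq.1 (ho _).symm) (f i).2
    obtain ⟨c, hc⟩ := h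
    rw [powMonoidHom_apply] at hc
    exact ⟨c, by
      rw [hc, mul_comm _ (lam C l t ^ e), ← mul_assoc, ← mul_assoc, mul_inv_cancel, one_mul]⟩
  choose c hc using hch
  let w : C.T → V := fun t => ((κ t).elim (0 : K) fun i => (c t i : K)) • C.r t • x
  have hne : ∀ e : G, e • x ≠ 0 := fun e => by
    rw [Ne, smul_eq_zero_iff_eq]; exact hx
  have hwne : ∀ (t : C.T) (i : Fin n), κ t = some i → w t = (c t i : K) • C.r t • x :=
    fun t i h => by simp [w, h]
  -- the colour is preserved
  have hkey : ∀ (g : G) (π : C.T ≃* C.T), Moves C g π → ∀ t : C.T, orderOf t = l →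
      g • w t = w (π t) → κ (π t) = κ t := by
    intro g π hM t ht hw
    have ht' : orderOf (π t) = l := by rw [MulEquiv.orderOf_eq, ht]
    have hginv : g⁻¹ • x = x := inv_smul_eq_iff.2 hM.fix.symm
    set r := C.r t with hr
    set r' := C.r (π t) with hr'
    set ρ := r'⁻¹ * (g * r * g⁻¹) with hρ
    have hρR : ρ ∈ L.lineCent x := C.mem_of_cls_eq (L.E_normal.conj_mem r (C.r_mem t) g) (by
      rw [hM.cls r (C.r_mem t)]
      exact congrArg π (C.cls_rep t))
    have hgr : g • r • x = r' • ρ • x := by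
      rw [← mul_smul r', hρ, mul_inv_cancel_left, mul_smul, mul_smul, hginv]
    rcases hκt : κ t with _ | i <;> rcases hκt' : κ (π t) with _ | i'
    · rfl
    · exfalso
      rw [hwne _ i' hκt'] at hw
      simp only [w, hκt, Option.elim_none, zero_smul, smul_zero] at hw
      exact hne r' ((smul_eq_zero.1 hw.symm).resolve_left (Units.ne_zero _))
    · exfalso
      rw [hwne _ i hκt, L.smul_σ, hM.linear] at hw
      simp only [w, hκt', Option.elim_none, zero_smul] at hw
      exact hne (g * r) (by rw [mul_smul]; exact (smul_eq_zero.1 hw).resolve_left (Units.ne_zero _))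
    rw [hwne _ i hκt, hwne _ i' hκt', L.smul_σ, hM.linear, hgr, ← L.linear r' (C.r_mem _),
      ← L.linear r' (C.r_mem _)] at hw
    set k : Kˣ := (c t i)⁻¹ * c (π t) i' with hk
    have hρx : ρ • x = (k : K) • x := by
      have h := congrArg ((((c t i)⁻¹ : Kˣ) : K) • ·) (smul_left_cancel r' hw)
      simp only [smul_smul, Units.inv_mul, one_smul] at h
      rw [h, hk, Units.val_mul]
    set ω := L.chi ρ r' with hω
    have hωl : ω ^ l = 1 := chi_pow_eq_one_right L hρR.1 (C.r_mem _) (C.rep_pow _ l hl ht')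
    have hωe : (ω ^ Nat.choose l 2) ^ e = 1 := by
      obtain ⟨j, hj⟩ := he
      rw [← pow_mul, hj, pow_mul, hωl, one_pow]
    have h1 : (lam C l t : K) • x =
        ((k : K) ^ l * ω ^ Nat.choose l 2 * (lam C l (π t) : K)) • x := by
      have h2 := pow_mul_smul_vec (L := L) (C.r_mem (π t)) hρR.1 hρx l
      rw [lam_smul C hl ht', smul_smul, ← hr', hρ, mul_inv_cancel_left, conj_pow, mul_smul,
        mul_smul, hginv, lam_smul C hl ht, L.smul_σ, hM.linear, hM.fix] at h2
      exact h2
    have h3 := congrArg (· ^ e) (smul_left_injective K hx h1)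
    simp only [mul_pow, hωe, mul_one, ← pow_mul] at h3
    have h4 : lam C l t ^ e = k ^ (l * e) * lam C l (π t) ^ e := Units.ext (by push_cast; exact h3)
    have h5 : o (lam C l t ^ e) * f i = o (lam C l (π t) ^ e) * f i' := by
      rw [← hc, ← hc, h4, hk, mul_pow, inv_pow, ← mul_assoc, ← mul_assoc, mul_inv_cancel, one_mul]
    have h6 := congrArg (QuotientGroup.mk' P) h5
    simp only [map_mul, QuotientGroup.mk'_apply, ho, (QuotientGroup.eq_one_iff _).2 (f i).2,
      (QuotientGroup.eq_one_iff _).2 (f i').2, mul_one] at h6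
    have h7 : o (lam C l t ^ e) = o (lam C l (π t) ^ e) := congrArg Quotient.out h6
    rw [h7] at h5
    rw [f.injective (Subtype.ext (mul_left_cancel h5))]
  refine ⟨⟨w, fun t => Submodule.smul_mem _ _ (L.orbit_mem_eig x (C.r_mem t)),
    fun g π hM hw => hrigid g π hM fun t ht => hkey g π hM t ht (hw t ht), ?_⟩⟩
  refine ⟨{t | orderOf t = l ∧ κ t ≠ none}, Gen, hGen, hclos,
    fun u hu => ⟨(hGen u hu).1, hpair u hu⟩, fun g π hM hπ hw t ht => ?_⟩
  obtain ⟨i, hi⟩ := Option.ne_none_iff_exists'.1 ht.2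
  have h := hw t ht.1
  rw [hwne t i hi, L.smul_σ, hM.linear] at h
  exact smul_right_injective V (Units.ne_zero (c t i)) h

end Cfsg.Agent.H86.BaseTwo
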