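import Cfsg.Agent.H86.BaseTwo.Coeff
import Cfsg.Agent.H86.BaseThree.Colouring

/-!
Existence of coset systems with good representatives, the primes dividing their orders, and the parts
given by colourings of the subgroups of one exponent.
-/

set_option autoImplicit false
set_option linter.unusedSectionVars false
set_option linter.style.haveILetI false

namespace Cfsg.Agent.H86.BaseTwo

open Cfsg.Agent.H86.BaseThree

universe u

variable {G : Type u} [Group G] [Finite G] {V : Type u} [AddCommGroup V] [DistribMulAction G V]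
  [Finite V] [Nontrivial V] [FaithfulSMul G V] {K : Type u} [Field K] [Finite K] [Module K V]
  {L : Layer G V K} {x : V}

theorem exists_cosets (L : Layer G V K) {x : V} (hx : x ≠ 0) : Nonempty (Cosets L x) := by
  classical
  set R := L.lineCent x with hR
  have hUR : L.U ≤ R := (L.U_le_lineStab x).trans (L.lineStab_le_lineCent hx)
  haveI := L.E_normal
  let RE : Subgroup L.E := R.subgroupOf L.E
  haveI : RE.Normal := ⟨fun t ht e => by
    rw [Subgroup.mem_subgroupOf] at ht ⊢
    have h := R.mul_mem (hUR (L.commutator_mem (e : G) e.2 (t : G) t.2)) ht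
    rw [inv_mul_cancel_right] at h
    simpa using h⟩
  let T := L.E ⧸ RE
  letI : CommGroup T :=
    { (inferInstance : Group T) with
      mul_comm := fun a b => by
        induction a using QuotientGroup.induction_on with
        | _ p =>
          induction b using QuotientGroup.induction_on with
          | _ q =>
            refine (QuotientGroup.eq).2 (Subgroup.mem_subgroupOf.2 (hUR ?_))
            have := L.commutator_mem _ (L.E.inv_mem q.2) _ (L.E.inv_mem p.2)
            simpa [mul_assoc] using this }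
  haveI : Fintype T := Fintype.ofFinite T
  let cls : L.E →* T := QuotientGroup.mk' RE
  have hsel : ∀ t : T, ∃ e : L.E, cls e = t ∧
      ((orderOf t).Prime → (e : G) ^ orderOf t ∈ L.U) := by
    intro t
    obtain ⟨e, he⟩ := QuotientGroup.mk'_surjective RE t
    by_cases hp : (orderOf t).Prime
    swap
    · exact ⟨e, he, fun h => absurd h hp⟩
    obtain ⟨N, hN, hU⟩ := L.squarefree _ e.2
    have hN' : orderOf t ∣ N := orderOf_dvd_of_pow_eq_one (by
      rw [← he, ← map_pow]
      exact (QuotientGroup.eq_one_iff _).2 (Subgroup.mem_subgroupOf.2 (by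
        rw [SubgroupClass.coe_pow]; exact hUR hU)))
    obtain ⟨m, rfl⟩ := hN'
    obtain ⟨b, -, hb⟩ := Nat.exists_mul_mod_eq_one_of_coprime
      (Nat.coprime_of_squarefree_mul hN).symm hp.one_lt
    refine ⟨e ^ (m * b), ?_, fun _ => ?_⟩
    · rw [map_pow]
      show cls e ^ (m * b) = t
      rw [he, ← pow_mod_orderOf, hb, pow_one]
    · rw [SubgroupClass.coe_pow, ← pow_mul, show m * b * orderOf t = orderOf t * m * b by ring,
        pow_mul]
      exact L.U.pow_mem hU b
  choose rep hrep hpow using hsel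
  exact ⟨{ T := T, cls := cls, rep := rep, cls_rep := hrep
           cls_eq_one := fun e => (QuotientGroup.eq_one_iff e).trans Subgroup.mem_subgroupOf
           rep_pow := fun t l hl ht => ht ▸ hpow t (ht.symm ▸ hl) }⟩

/-- The primes occurring divide the number of scalars. -/
theorem dvd_card_units (C : Cosets L x) {l : ℕ} (hl : l.Prime) {t : C.T}
    (ht : orderOf t = l) : l ∣ Nat.card Kˣ := by
  haveI := Fact.mk hl
  have hne : t ≠ 1 := fun h => hl.one_lt.ne' (by rw [← ht, h, orderOf_one])
  have hsep : (1 : G)⁻¹ * C.r t ∉ L.lineCent x := by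
    rw [inv_one, one_mul]
    intro h
    exact hne ((C.cls_rep t).symm.trans ((C.cls_eq_one _).2 h))
  obtain ⟨a, ha, hne'⟩ := L.exists_separating (C.r_mem t) L.E.one_mem hsep
  have h1 : L.chi a 1 = 1 := by
    obtain ⟨v, hv⟩ := exists_ne (0 : V)
    have h := L.chi_smul ha.1 L.E.one_mem v
    rw [one_smul, one_smul] at h
    have hne'' : a • v ≠ 0 := by rw [Ne, smul_eq_zero_iff_eq]; exact hv
    exact smul_left_injective K hne'' (h.symm.trans (one_smul K _).symm)
  rw [h1] at hne'
  have hpow := chi_pow_eq_one_right L ha.1 (C.r_mem t) (C.rep_pow t l hl ht)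
  have hne0 : L.chi a (C.r t) ≠ 0 := fun h => by
    rw [h, zero_pow hl.ne_zero] at hpow
    exact zero_ne_one hpow
  have ho : orderOf (Units.mk0 _ hne0) = l :=
    orderOf_eq_prime (Units.ext (by push_cast; exact hpow)) fun h => hne' (congrArg Units.val h)
  rw [← ho]
  exact orderOf_dvd_natCard _

/-- With only the prime two the exponent is two. -/
theorem sq_eq_one {T : Type*} [CommGroup T] (hsq : ∀ t : T, Squarefree (orderOf t))
    (h2 : ∀ t : T, (orderOf t).Prime → orderOf t = 2) (t : T) : t * t = 1 := by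
  have hle : Subgroup.closure {s : T | (orderOf s).Prime} ≤ (powMonoidHom (α := T) 2).ker := by
    rw [Subgroup.closure_le]
    intro s hs
    rw [SetLike.mem_coe, MonoidHom.mem_ker, powMonoidHom_apply, ← h2 s hs, pow_orderOf_eq_one]
  have := hle (mem_closure_prime hsq t)
  rwa [MonoidHom.mem_ker, powMonoidHom_apply, sq] at this

theorem orderOf_eq_iff_of_prime {T : Type*} [CommGroup T] {l : ℕ} (hl : l.Prime) (t : T) :
    orderOf t = l ↔ t ^ l = 1 ∧ t ≠ 1 := by
  haveI := Fact.mk hl
  constructor
  · intro h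
    exact ⟨h ▸ pow_orderOf_eq_one t, fun h1 => hl.one_lt.ne' (by rw [← h, h1, orderOf_one])⟩
  · rintro ⟨h1, h2⟩
    exact orderOf_eq_prime h1 h2

/-- A part from a colouring of the elements of exponent `l`. -/
theorem exists_part_of_colouring (hx : x ≠ 0) (C : Cosets L x) {l : ℕ} (hl : l.Prime) (e : ℕ)
    (he : l ∣ Nat.choose l 2 * e) {n : ℕ}
    (hn : n ≤ Nat.card (powMonoidHom (α := Kˣ) (l * e)).range)
    (T' : Subgroup C.T) (hmem : ∀ t : C.T, t ∈ T' ↔ t ^ l = 1)
    (κ : T' → Fin (n + 1)) (S : Finset T') (hS : Subgroup.closure (S : Set T') = ⊤)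
    (hκS : ∀ s ∈ S, κ s ≠ 0) (hκSS : ∀ s ∈ S, ∀ s' ∈ S, s * s' ≠ 1 → κ (s * s') ≠ 0)
    (hκπ : ∀ π : T' ≃* T', (∀ t, t ≠ 1 → κ (π t) = κ t) → ∀ t, π t = t) :
    Nonempty (Part C l) := by
  classical
  let colour : C.T → Option (Fin n) := fun t =>
    if h : t ∈ T' then (if h0 : κ ⟨t, h⟩ = 0 then none else some ((κ ⟨t, h⟩).pred h0)) else none
  have hcolour : ∀ s : T', κ s ≠ 0 → colour s ≠ none := fun s hs => by
    simp only [colour, dif_pos s.2]
    simpa using hs
  have hord : ∀ s : T', s ≠ 1 → orderOf (s : C.T) = l := fun s hs =>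
    (orderOf_eq_iff_of_prime hl _).2 ⟨(hmem _).1 s.2, fun h => hs (Subtype.ext h)⟩
  refine exists_part_of_colour hx C hl e he hn colour (fun g π hM hcol t ht => ?_)
    {t | ∃ s : T', s ∈ S ∧ s ≠ 1 ∧ (s : C.T) = t} ?_ ?_ ?_
  · have hπmem : ∀ s : C.T, s ∈ T' → π s ∈ T' := fun s hs => by
      rw [hmem] at hs ⊢
      rw [← map_pow, hs, map_one]
    have hπmem' : ∀ s : C.T, s ∈ T' → π.symm s ∈ T' := fun s hs => by
      rw [hmem] at hs ⊢
      rw [← map_pow, hs, map_one]
    let π' : T' ≃* T' :=
      { toFun := fun s => ⟨π s, hπmem _ s.2⟩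
        invFun := fun s => ⟨π.symm s, hπmem' _ s.2⟩
        left_inv := fun s => Subtype.ext (π.symm_apply_apply _)
        right_inv := fun s => Subtype.ext (π.apply_symm_apply _)
        map_mul' := fun s s' => Subtype.ext (map_mul π _ _) }
    have h' : ∀ s : T', s ≠ 1 → κ (π' s) = κ s := by
      intro s hs
      have h := hcol s (hord s hs)
      simp only [colour, dif_pos s.2, dif_pos (hπmem _ s.2)] at h
      show κ ⟨π s, _⟩ = κ s
      split_ifs at h with h1 h2 <;>
        simp only [Option.some.injEq, Fin.pred_inj] at h <;> simp_all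
    exact congrArg Subtype.val
      (hκπ π' h' ⟨t, (hmem t).2 ((orderOf_eq_iff_of_prime hl t).1 ht).1⟩)
  · rintro _ ⟨s, hs, hs1, rfl⟩
    exact ⟨hord s hs1, hcolour s (hκS s hs)⟩
  · intro t ht
    have hle : Subgroup.closure (S : Set T') ≤ (Subgroup.closure
        {t : C.T | ∃ s : T', s ∈ S ∧ s ≠ 1 ∧ (s : C.T) = t}).comap T'.subtype := by
      rw [Subgroup.closure_le]
      intro s hs
      rcases eq_or_ne s 1 with rfl | hs1
      · exact one_mem _
      · exact Subgroup.subset_closure ⟨s, hs, hs1, rfl⟩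
    exact hle (hS ▸ Subgroup.mem_top
      (⟨t, (hmem t).2 ((orderOf_eq_iff_of_prime hl t).1 ht).1⟩ : T'))
  · rintro _ ⟨u, hu, hu1, rfl⟩ t ht
    have hle : Subgroup.closure (S : Set T') ≤ (Subgroup.closure
        {v : C.T | (orderOf v = l ∧ colour v ≠ none) ∧
          ((orderOf ((u : C.T) * v) = l ∧ colour ((u : C.T) * v) ≠ none) ∨ (u : C.T) * v = 1)}).comap
            T'.subtype := by
      rw [Subgroup.closure_le]
      intro s hs
      rcases eq_or_ne s 1 with rfl | hs1
      · exact one_mem _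
      refine Subgroup.subset_closure ⟨⟨hord s hs1, hcolour s (hκS s hs)⟩, ?_⟩
      by_cases hus : u * s = 1
      · exact Or.inr (congrArg Subtype.val hus)
      · exact Or.inl ⟨hord _ hus, hcolour _ (hκSS u hu s hs hus)⟩
    exact hle (hS ▸ Subgroup.mem_top
      (⟨t, (hmem t).2 ((orderOf_eq_iff_of_prime hl t).1 ht).1⟩ : T'))

end Cfsg.Agent.H86.BaseTwo
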