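import Cfsg.Agent.H86.BaseTwo.Spec
import Cfsg.Agent.H94.Base3.Colour
import Mathlib.Algebra.Module.ZMod

/-!
A rigid subset of a group of exponent two and order at least sixty-four: what is left when a basis,
the sums of neighbours in it, and one sum of three basis elements are removed.
-/

set_option autoImplicit false
set_option linter.unusedSectionVars false

namespace Cfsg.Agent.H86.BaseTwo

open Cfsg.Agent.H94.Base3 (path_map)

universe u

/-- Membership of coordinates. -/
structure Coord (T : Type u) [CommGroup T] (n : ℕ) where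
  m : T → ℕ → Prop
  lt : ∀ t k, m t k → k < n
  ext : ∀ s t, (∀ k, m s k ↔ m t k) → s = t
  mul : ∀ s t k, m (s * t) k ↔ ¬(m s k ↔ m t k)
  S : ℕ → T
  S_iff : ∀ i, i < n → ∀ k, m (S i) k ↔ k = i
  gen : Subgroup.closure {t | ∃ i, i < n ∧ t = S i} = ⊤
  card : Nat.card T = 2 ^ n

/-- An iterated doubling: coordinates exist. -/
theorem exists_coord (T : Type u) [CommGroup T] [Finite T] (hT : ∀ t : T, t * t = 1) :
    ∃ n, Nonempty (Coord T n) := by
  classical
  letI : Module (ZMod 2) (Additive T) := AddCommGroup.zmodModule (n := 2) (fun t => by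
    rw [two_nsmul]; exact hT t.toMul)
  set n := Module.finrank (ZMod 2) (Additive T) with hn
  let b := Module.finBasis (ZMod 2) (Additive T)
  let m : T → ℕ → Prop := fun t k => ∃ h : k < n, b.repr (Additive.ofMul t) ⟨k, h⟩ = 1
  let S : ℕ → T := fun i => if h : i < n then (b ⟨i, h⟩).toMul else 1
  have hS : ∀ (i : ℕ) (h : i < n), Additive.ofMul (S i) = b ⟨i, h⟩ := fun i h => by
    simp [S, h]
  have h01 : ∀ a : ZMod 2, a = 0 ∨ a = 1 := by decide
  refine ⟨n, ⟨⟨m, fun t k h => h.1, fun s t h => ?_, fun s t k => ?_, S, fun i hi k => ?_, ?_, ?_⟩⟩⟩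
  · refine Additive.ofMul.injective (b.repr.injective (Finsupp.ext fun i => ?_))
    have := h i.1
    simp only [m, i.2, exists_true_left, Fin.eta] at this
    rcases h01 (b.repr (Additive.ofMul s) i) with h1 | h1 <;>
      rcases h01 (b.repr (Additive.ofMul t) i) with h2 | h2 <;> simp_all
  · simp only [m]
    by_cases hk : k < n
    · simp only [hk, exists_true_left, ofMul_mul, map_add, Finsupp.add_apply]
      rcases h01 (b.repr (Additive.ofMul s) ⟨k, hk⟩) with h1 | h1 <;>
        rcases h01 (b.repr (Additive.ofMul t) ⟨k, hk⟩) with h2 | h2 <;> rw [h1, h2] <;> decide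
    · simp [hk]
  · simp only [m]
    constructor
    · rintro ⟨hk, h⟩
      rw [hS i hi, b.repr_self, Finsupp.single_apply] at h
      by_contra hne
      rw [if_neg (fun e => hne (congrArg Fin.val e).symm)] at h
      exact zero_ne_one h
    · rintro rfl
      exact ⟨hi, by rw [hS k hi, b.repr_self, Finsupp.single_eq_same]⟩
  · rw [eq_top_iff]
    intro t _
    have hmem : Additive.ofMul t ∈ Submodule.span (ZMod 2) (Set.range b) := by
      rw [b.span_eq]; exact Submodule.mem_top
    have key : ∀ a ∈ Submodule.span (ZMod 2) (Set.range b),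
        (a : Additive T).toMul ∈ Subgroup.closure {t | ∃ i, i < n ∧ t = S i} := by
      intro a ha
      induction ha using Submodule.span_induction with
      | mem x hx =>
        obtain ⟨i, rfl⟩ := hx
        exact Subgroup.subset_closure ⟨i.1, i.2, by
          simp only [S, dif_pos (show i.1 < n from i.2)]⟩
      | zero => exact one_mem _
      | add x y _ _ hx hy => exact mul_mem hx hy
      | smul c x _ hx =>
        rcases h01 c with rfl | rfl
        · rw [zero_smul]; exact one_mem _
        · rwa [one_smul]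
    exact key _ hmem
  · haveI : Module.Finite (ZMod 2) (Additive T) := Module.Finite.of_finite
    rw [← Nat.card_congr Additive.ofMul.symm, Module.natCard_eq_pow_finrank (K := ZMod 2), Nat.card_zmod]

/-- A set with more than half of the elements generates. -/
theorem closure_eq_top_of_card {T : Type u} [Group T] [Finite T] (A : Set T)
    (h : Nat.card T < 2 * Nat.card A) : Subgroup.closure A = ⊤ := by
  rw [← Subgroup.index_eq_one]
  have h1 := (Subgroup.closure A).card_mul_index
  have h2 : Nat.card A ≤ Nat.card (Subgroup.closure A) :=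
    Nat.card_le_card_of_injective (fun a : A => (⟨a.1, Subgroup.subset_closure a.2⟩ : Subgroup.closure A))
      fun a b e => by simpa [Subtype.ext_iff] using e
  rcases Nat.lt_or_ge (Subgroup.closure A).index 2 with h3 | h3
  · have : (Subgroup.closure A).index ≠ 0 := Subgroup.index_ne_zero_of_finite
    omega
  · have : 2 * Nat.card (Subgroup.closure A) ≤
        (Subgroup.closure A).index * Nat.card (Subgroup.closure A) := Nat.mul_le_mul_right _ h3
    rw [mul_comm (Subgroup.closure A).index] at this
    omega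

variable {T : Type u} [CommGroup T] {n : ℕ} (C : Coord T n)

/-- The sum of two neighbours. -/
def Coord.E (i : ℕ) : T := C.S i * C.S (i + 1)

/-- The sum of three basis elements. -/
def Coord.z : T := C.S 0 * C.S 2 * C.S (n - 1)

/-- The removed elements. -/
def Coord.InY (y : T) : Prop :=
  (∃ i, i < n ∧ y = C.S i) ∨ (∃ i, i + 1 < n ∧ y = C.E i) ∨ y = C.z

theorem Coord.E_iff {i : ℕ} (hi : i + 1 < n) (k : ℕ) : C.m (C.E i) k ↔ k = i ∨ k = i + 1 := by
  rw [Coord.E, C.mul, C.S_iff i (by omega), C.S_iff (i + 1) hi]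
  omega

theorem Coord.z_iff (hn : 6 ≤ n) (k : ℕ) : C.m C.z k ↔ k = 0 ∨ k = 2 ∨ k = n - 1 := by
  rw [Coord.z, C.mul, C.mul, C.S_iff 0 (by omega), C.S_iff 2 (by omega),
    C.S_iff (n - 1) (by omega)]
  omega

/-- The sums inside the removed set. -/
theorem Coord.neighbours (hn : 6 ≤ n) {a b : T} (ha : C.InY a) (hb : C.InY b)
    (hab : C.InY (a * b)) :
    (∃ i, i < n ∧ a = C.S i ∧ ((∃ j, j < n ∧ (j + 1 = i ∨ j = i + 1) ∧ b = C.S j) ∨
      ∃ j, j + 1 < n ∧ (j + 1 = i ∨ j = i) ∧ b = C.E j)) ∨
    ∃ i, i + 1 < n ∧ a = C.E i ∧ ∃ j, j < n ∧ (j = i ∨ j = i + 1) ∧ b = C.S j := by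
  rcases ha with ⟨i, hi, rfl⟩ | ⟨i, hi, rfl⟩ | rfl <;>
    rcases hb with ⟨j, hj, rfl⟩ | ⟨j, hj, rfl⟩ | rfl <;>
    rcases hab with ⟨l, hl, h⟩ | ⟨l, hl, h⟩ | h <;>
    have key := fun k => iff_of_eq (congrArg (fun t => C.m t k) h)
  all_goals simp only [C.mul, C.z_iff hn] at key
  -- two basis elements
  · simp only [C.S_iff _ hi, C.S_iff _ hj, C.S_iff _ hl] at key
    have := key i; have := key j; have := key l
    omega
  · simp only [C.S_iff _ hi, C.S_iff _ hj, C.E_iff hl] at key
    have := key i; have := key j; have := key l; have := key (l + 1)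
    exact Or.inl ⟨i, hi, rfl, Or.inl ⟨j, hj, by omega, rfl⟩⟩
  · simp only [C.S_iff _ hi, C.S_iff _ hj] at key
    have := key 0; have := key 2; have := key (n - 1)
    omega
  -- a basis element and a sum of neighbours
  · simp only [C.S_iff _ hi, C.E_iff hj, C.S_iff _ hl] at key
    have := key i; have := key j; have := key (j + 1)
    exact Or.inl ⟨i, hi, rfl, Or.inr ⟨j, hj, by omega, rfl⟩⟩
  · simp only [C.S_iff _ hi, C.E_iff hj, C.E_iff hl] at key
    have := key i; have := key j; have := key (j + 1); have := key l; have := key (l + 1)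
    omega
  · simp only [C.S_iff _ hi, C.E_iff hj] at key
    have := key 0; have := key 2; have := key (n - 1); have := key i; have := key j
    omega
  · simp only [C.S_iff _ hi, C.S_iff _ hl] at key
    have := key 0; have := key 2; have := key (n - 1)
    omega
  · simp only [C.S_iff _ hi, C.E_iff hl] at key
    have := key 0; have := key 2; have := key (n - 1); have := key i; have := key l
    omega
  · simp only [C.S_iff _ hi] at key
    have := key i
    omega
  · simp only [C.E_iff hi, C.S_iff _ hj, C.S_iff _ hl] at key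
    have := key i; have := key j; have := key (i + 1)
    exact Or.inr ⟨i, hi, rfl, j, hj, by omega, rfl⟩
  · simp only [C.E_iff hi, C.S_iff _ hj, C.E_iff hl] at key
    have := key i; have := key j; have := key (i + 1); have := key l; have := key (l + 1)
    omega
  · simp only [C.E_iff hi, C.S_iff _ hj] at key
    have := key 0; have := key 2; have := key (n - 1); have := key i; have := key j
    omega
  · simp only [C.E_iff hi, C.E_iff hj, C.S_iff _ hl] at key
    have := key i; have := key j; have := key (i + 1); have := key (j + 1); have := key l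
    omega
  · simp only [C.E_iff hi, C.E_iff hj, C.E_iff hl] at key
    have := key i; have := key j; have := key (i + 1); have := key (j + 1); have := key l
    have := key (l + 1)
    omega
  · simp only [C.E_iff hi, C.E_iff hj] at key
    have := key 0; have := key 2; have := key (n - 1); have := key i; have := key (i + 1)
    omega
  · simp only [C.E_iff hi, C.S_iff _ hl] at key
    have := key 0; have := key 2; have := key (n - 1); have := key i; have := key l
    omega
  · simp only [C.E_iff hi, C.E_iff hl] at key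
    have := key 0; have := key 2; have := key (n - 1); have := key i; have := key l
    omega
  · simp only [C.E_iff hi] at key
    have := key i
    omega
  · simp only [C.S_iff _ hj, C.S_iff _ hl] at key
    have := key 0; have := key 2; have := key (n - 1)
    omega
  · simp only [C.S_iff _ hj, C.E_iff hl] at key
    have := key 0; have := key 2; have := key (n - 1); have := key j; have := key l
    omega
  · simp only [C.S_iff _ hj] at key
    have := key j
    omega
  · simp only [C.E_iff hj, C.S_iff _ hl] at key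
    have := key 0; have := key 2; have := key (n - 1); have := key j; have := key l
    omega
  · simp only [C.E_iff hj, C.E_iff hl] at key
    have := key 0; have := key 2; have := key (n - 1); have := key j; have := key l
    omega
  · simp only [C.E_iff hj] at key
    have := key j
    omega
  · simp only [C.S_iff _ hl] at key
    have := key l
    simp at this
  · simp only [C.E_iff hl] at key
    have := key l
    simp at this
  · have := key 0
    simp at this

theorem Coord.S_inj {i j : ℕ} (hi : i < n) (hj : j < n) (h : C.S i = C.S j) : i = j := by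
  have := iff_of_eq (congrArg (fun t => C.m t i) h)
  simp only [C.S_iff _ hi, C.S_iff _ hj, true_iff] at this
  omega

theorem Coord.E_inj {i j : ℕ} (hi : i + 1 < n) (hj : j + 1 < n) (h : C.E i = C.E j) : i = j := by
  have h1 := iff_of_eq (congrArg (fun t => C.m t i) h)
  have h2 := iff_of_eq (congrArg (fun t => C.m t (i + 1)) h)
  simp only [C.E_iff hi, C.E_iff hj, true_or, or_true, true_iff] at h1 h2
  omega

theorem Coord.S_ne_E {i j : ℕ} (hi : i < n) (hj : j + 1 < n) : C.S i ≠ C.E j := by
  intro h
  have h1 := iff_of_eq (congrArg (fun t => C.m t j) h)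
  have h2 := iff_of_eq (congrArg (fun t => C.m t (j + 1)) h)
  simp only [C.S_iff _ hi, C.E_iff hj, true_or, or_true, iff_true] at h1 h2
  omega

/-- Having three neighbours. -/
def Coord.Three (a : T) : Prop :=
  ∃ b c d, b ≠ c ∧ b ≠ d ∧ c ≠ d ∧ C.InY b ∧ C.InY c ∧ C.InY d ∧
    C.InY (a * b) ∧ C.InY (a * c) ∧ C.InY (a * d)

theorem Coord.mul_S_E (hT : ∀ t : T, t * t = 1) (i : ℕ) :
    C.S i * C.E i = C.S (i + 1) ∧ C.S (i + 1) * C.E i = C.S i := by
  refine ⟨by rw [Coord.E, ← mul_assoc, hT, one_mul], ?_⟩
  rw [Coord.E, mul_comm, mul_assoc, hT, mul_one]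

theorem Coord.three_iff (hn : 6 ≤ n) (hT : ∀ t : T, t * t = 1) {a : T} (ha : C.InY a) :
    C.Three a ↔ ∃ i, 0 < i ∧ i + 1 < n ∧ a = C.S i := by
  constructor
  · rintro ⟨b, c, d, hbc, hbd, hcd, hb, hc, hd, hab, hac, had⟩
    have nb := C.neighbours hn ha hb hab
    have nc := C.neighbours hn ha hc hac
    have nd := C.neighbours hn ha hd had
    by_contra hno
    push Not at hno
    -- each neighbour is one of two
    rcases nb with ⟨i, hi, rfl, -⟩ | ⟨i, hi, rfl, j₁, hj₁, hb₁, rfl⟩
    · have hend : i = 0 ∨ i + 1 = n := by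
        by_contra h
        push Not at h
        exact hno i (by omega) (by omega) rfl
      have key : ∀ y, C.InY y → C.InY (C.S i * y) →
          (∃ j, j < n ∧ (j + 1 = i ∨ j = i + 1) ∧ y = C.S j) ∨
            ∃ j, j + 1 < n ∧ (j + 1 = i ∨ j = i) ∧ y = C.E j := by
        intro y hy hiy
        rcases C.neighbours hn ha hy hiy with ⟨i', hi', e, h⟩ | ⟨i', hi', e, -⟩
        · obtain rfl := C.S_inj hi hi' e
          exact h
        · exact absurd e (C.S_ne_E hi hi')
      obtain ⟨a₁, a₂, htwo⟩ : ∃ a₁ a₂, ∀ y, C.InY y → C.InY (C.S i * y) → y = a₁ ∨ y = a₂ := by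
        rcases hend with h | h
        · refine ⟨C.S 1, C.E 0, fun y hy hy' => ?_⟩
          rcases key y hy hy' with ⟨j, hj, oj, e⟩ | ⟨j, hj, oj, e⟩
          · have h1 : j = 1 := by omega
            exact Or.inl (h1 ▸ e)
          · have h1 : j = 0 := by omega
            exact Or.inr (h1 ▸ e)
        · refine ⟨C.S (i - 1), C.E (i - 1), fun y hy hy' => ?_⟩
          rcases key y hy hy' with ⟨j, hj, oj, e⟩ | ⟨j, hj, oj, e⟩
          · have h1 : j = i - 1 := by omega
            exact Or.inl (h1 ▸ e)
          · have h1 : j = i - 1 := by omega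
            exact Or.inr (h1 ▸ e)
      rcases htwo b hb hab with e1 | e1 <;> rcases htwo c hc hac with e2 | e2 <;>
        rcases htwo d hd had with e3 | e3 <;>
          first
            | exact hbc (e1.trans e2.symm)
            | exact hbd (e1.trans e3.symm)
            | exact hcd (e2.trans e3.symm)
    · rcases nc with ⟨i', hi', e, -⟩ | ⟨i', hi', e, j₂, hj₂, hc₂, rfl⟩
      · exact C.S_ne_E hi' hi e.symm
      obtain rfl := C.E_inj hi hi' e
      rcases nd with ⟨i', hi', e, -⟩ | ⟨i', hi', e, j₃, hj₃, hd₃, rfl⟩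
      · exact C.S_ne_E hi' hi e.symm
      obtain rfl := C.E_inj hi hi' e
      first
        | (refine hbc (congrArg C.S ?_); omega)
        | (rcases hb₁ with rfl | rfl <;> rcases hc₂ with rfl | rfl <;> rcases hd₃ with rfl | rfl <;>
            simp_all)
  · rintro ⟨i, hi0, hi, rfl⟩
    obtain ⟨k, rfl⟩ : ∃ k, i = k + 1 := ⟨i - 1, by omega⟩
    refine ⟨C.S k, C.S (k + 2), C.E (k + 1), fun h => ?_, C.S_ne_E (by omega) hi,
      C.S_ne_E hi hi, Or.inl ⟨k, by omega, rfl⟩, Or.inl ⟨k + 2, hi, rfl⟩,
      Or.inr (Or.inl ⟨k + 1, hi, rfl⟩), Or.inr (Or.inl ⟨k, by omega, mul_comm _ _⟩),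
      Or.inr (Or.inl ⟨k + 1, hi, rfl⟩), Or.inl ⟨k + 2, hi, (C.mul_S_E hT (k + 1)).1⟩⟩
    have := C.S_inj (by omega) hi h
    omega

/-- No automorphism preserves the removed set. -/
theorem Coord.rigid (hn : 6 ≤ n) (hT : ∀ t : T, t * t = 1) (π : T ≃* T)
    (hπ : ∀ t, C.InY (π t) ↔ C.InY t) (t : T) : π t = t := by
  have hsum : ∀ a b, C.InY (π a * π b) ↔ C.InY (a * b) := fun a b => by rw [← map_mul, hπ]
  have h3 : ∀ a, C.Three a → C.Three (π a) := by
    rintro a ⟨b, c, d, h1, h2, h3, hb, hc, hd, hab, hac, had⟩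
    exact ⟨π b, π c, π d, π.injective.ne h1, π.injective.ne h2, π.injective.ne h3, (hπ b).2 hb,
      (hπ c).2 hc, (hπ d).2 hd, (hsum a b).2 hab, (hsum a c).2 hac, (hsum a d).2 had⟩
  have hS : ∀ i, i < n → C.InY (C.S i) := fun i hi => Or.inl ⟨i, hi, rfl⟩
  have hmid : ∀ i, ∃ j, 0 < i → i + 1 < n → 0 < j ∧ j + 1 < n ∧ π (C.S i) = C.S j := by
    intro i
    by_cases h : 0 < i ∧ i + 1 < n
    · obtain ⟨j, hj0, hj, e⟩ := (C.three_iff hn hT ((hπ _).2 (hS i (by omega)))).1
        (h3 _ ((C.three_iff hn hT (hS i (by omega))).2 ⟨i, h.1, h.2, rfl⟩))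
      exact ⟨j, fun _ _ => ⟨hj0, hj, e⟩⟩
    · exact ⟨0, fun h1 h2 => absurd ⟨h1, h2⟩ h⟩
  choose p hp using hmid
  -- the interior is a path
  have hadj : ∀ i j, i < n → j < n → C.InY (C.S i * C.S j) → j + 1 = i ∨ j = i + 1 := by
    intro i j hi hj h
    rcases C.neighbours hn (hS i hi) (hS j hj) h with
      ⟨i', hi', e, ⟨j', hj', o, e'⟩ | ⟨j', hj', o, e'⟩⟩ | ⟨i', hi', e, -⟩
    · have := C.S_inj hi hi' e; have := C.S_inj hj hj' e'; omega
    · exact absurd e' (C.S_ne_E hj hj')
    · exact absurd e (C.S_ne_E hi hi')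
  have hstep : ∀ i, i + 1 < n - 2 → p (i + 1 + 1) - 1 = p (i + 1) - 1 + 1 ∨
      p (i + 1) - 1 = p (i + 1 + 1) - 1 + 1 := by
    intro i hi
    obtain ⟨a0, a1, a⟩ := hp (i + 1) (by omega) (by omega)
    obtain ⟨b0, b1, b⟩ := hp (i + 1 + 1) (by omega) (by omega)
    have h := (hsum (C.S (i + 1)) (C.S (i + 1 + 1))).2 (Or.inr (Or.inl ⟨i + 1, by omega, rfl⟩))
    rw [a, b] at h
    have := hadj _ _ (by omega) (by omega) h
    omega
  have hpinj : ∀ i j, 0 < i → i + 1 < n → 0 < j → j + 1 < n → p i = p j → i = j :=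
    fun i j i0 i1 j0 j1 h => C.S_inj (by omega) (by omega) (π.injective (by
      rw [(hp i i0 i1).2.2, (hp j j0 j1).2.2, h]))
  have hdir : (∀ i, 0 < i → i + 1 < n → p i = i) ∨ (∀ i, 0 < i → i + 1 < n → p i + i = n - 1) := by
    rcases path_map (fun i => p (i + 1) - 1) (n := n - 2) (fun i j hi hj h => by
      have := (hp (i + 1) (by omega) (by omega)).1
      have := (hp (j + 1) (by omega) (by omega)).1
      have := hpinj (i + 1) (j + 1) (by omega) (by omega) (by omega) (by omega) (by omega)
      omega) hstep with h | h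
    · left
      intro i i0 i1
      have hi := h (i - 1) (by omega)
      have hl := h (n - 3) (by omega)
      rw [show i - 1 + 1 = i by omega] at hi
      rw [show n - 3 + 1 = n - 2 by omega] at hl
      have := hp i i0 i1
      have := hp (n - 2) (by omega) (by omega)
      have := hp 1 (by omega) (by omega)
      simp only [zero_add] at hi hl
      omega
    · right
      intro i i0 i1
      have hi := h (i - 1) (by omega)
      have hl := h (n - 3) (by omega)
      rw [show i - 1 + 1 = i by omega] at hi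
      rw [show n - 3 + 1 = n - 2 by omega] at hl
      have := hp i i0 i1
      have := hp (n - 2) (by omega) (by omega)
      have := hp 1 (by omega) (by omega)
      simp only [zero_add] at hi hl
      omega
  -- the ends
  have hend : ∀ e i₀, e < n → (e = 0 ∧ i₀ = 1 ∨ e = n - 1 ∧ i₀ = n - 2) →
      ∀ e' j₀, (e' = 0 ∧ j₀ = 1 ∨ e' = n - 1 ∧ j₀ = n - 2) → π (C.S i₀) = C.S j₀ →
        (∀ k, j₀ + 1 = k ∨ k + 1 = j₀ → k ≠ e' → ∃ i, 0 < i ∧ i + 1 < n ∧ π (C.S i) = C.S k ∧
          (i + 1 = i₀ ∨ i = i₀ + 1)) →
        ∀ k, C.m (π (C.S e)) k → k = e' ∨ k = j₀ := by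
    intro e i₀ he hei e' j₀ hej hπi hk
    have hE : C.InY (π (C.S e) * C.S j₀) := by
      rw [← hπi, hsum]
      rcases hei with ⟨rfl, rfl⟩ | ⟨rfl, rfl⟩
      · exact Or.inr (Or.inl ⟨0, by omega, rfl⟩)
      · refine Or.inr (Or.inl ⟨n - 2, by omega, ?_⟩)
        rw [Coord.E, show n - 2 + 1 = n - 1 by omega, mul_comm]
    have hinY := (hπ _).2 (hS e he)
    have hnot : ∀ i, 0 < i → i + 1 < n → π (C.S e) ≠ π (C.S i) := fun i i0 i1 h => by
      have := C.S_inj he (by omega) (π.injective h); omega
    rcases C.neighbours hn hinY (hS j₀ (by omega)) hE with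
      ⟨a, ha, hea, ⟨b, hb, o, hjb⟩ | ⟨b, hb, o, hjb⟩⟩ | ⟨a, ha, hea, b, hb, o, hjb⟩
    · obtain rfl := C.S_inj (by omega) hb hjb
      intro k hkm
      rw [hea, C.S_iff a ha] at hkm
      subst hkm
      by_contra hne
      push Not at hne
      obtain ⟨i, i0, i1, hi, -⟩ := hk k (by omega) hne.1
      exact hnot i i0 i1 (hea.trans hi.symm)
    · exact absurd hjb (C.S_ne_E (by omega) hb)
    · obtain rfl := C.S_inj (by omega) hb hjb
      intro k hkm
      rw [hea, C.E_iff ha] at hkm
      by_contra hne
      push Not at hne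
      obtain ⟨i, i0, i1, hi, hii⟩ := hk k (by omega) hne.1
      -- then it is the image of a sum of interior neighbours
      have hsplit : π (C.S e) = π (C.S i * C.S i₀) := by
        rw [map_mul, hi, hπi, hea, Coord.E]
        rcases hkm with rfl | rfl
        · rw [show k + 1 = j₀ by omega]
        · rw [show j₀ = a by omega, mul_comm]
      have h1 := π.injective hsplit
      have h2 := iff_of_eq (congrArg (fun t => C.m t e) h1)
      rw [C.mul, C.S_iff e he, C.S_iff i (by omega), C.S_iff i₀ (by omega)] at h2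
      omega
  have hz : π C.z = C.z := by
    rcases (hπ _).2 (show C.InY C.z from Or.inr (Or.inr rfl)) with ⟨i, hi, e⟩ | ⟨i, hi, e⟩ | e
    · exfalso
      obtain ⟨b, hb, hb'⟩ : ∃ b, C.InY b ∧ C.InY (C.S i * b) := by
        by_cases h : i + 1 < n
        · exact ⟨C.S (i + 1), hS _ h, Or.inr (Or.inl ⟨i, h, rfl⟩)⟩
        · obtain ⟨k, rfl⟩ : ∃ k, i = k + 1 := ⟨i - 1, by omega⟩
          exact ⟨C.S k, hS _ (by omega), Or.inr (Or.inl ⟨k, hi, mul_comm _ _⟩)⟩
      rw [← e, ← π.apply_symm_apply b, hsum] at hb'
      rcases C.neighbours hn (Or.inr (Or.inr rfl)) ((hπ _).1 (by rwa [π.apply_symm_apply])) hb' with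
        ⟨a, ha, h, -⟩ | ⟨a, ha, h, -⟩
      · have := iff_of_eq (congrArg (fun t => C.m t 0) h)
        have h2 := iff_of_eq (congrArg (fun t => C.m t 2) h)
        simp only [C.z_iff hn, C.S_iff _ ha, true_or, or_true, true_iff] at this h2
        omega
      · have := iff_of_eq (congrArg (fun t => C.m t 0) h)
        have h2 := iff_of_eq (congrArg (fun t => C.m t 2) h)
        simp only [C.z_iff hn, C.E_iff ha, true_or, or_true, true_iff] at this h2
        omega
    · exfalso
      have hb' : C.InY (C.E i * C.S i) := Or.inl ⟨i + 1, hi, by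
        rw [mul_comm]; exact (C.mul_S_E hT i).1⟩
      rw [← e, ← π.apply_symm_apply (C.S i), hsum] at hb'
      rcases C.neighbours hn (Or.inr (Or.inr rfl))
        ((hπ _).1 (by rw [π.apply_symm_apply]; exact hS i (by omega))) hb' with
        ⟨a, ha, h, -⟩ | ⟨a, ha, h, -⟩
      · have := iff_of_eq (congrArg (fun t => C.m t 0) h)
        have h2 := iff_of_eq (congrArg (fun t => C.m t 2) h)
        simp only [C.z_iff hn, C.S_iff _ ha, true_or, or_true, true_iff] at this h2
        omega
      · have := iff_of_eq (congrArg (fun t => C.m t 0) h)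
        have h2 := iff_of_eq (congrArg (fun t => C.m t 2) h)
        simp only [C.z_iff hn, C.E_iff ha, true_or, or_true, true_iff] at this h2
        omega
    · exact e
  have hfix : ∀ i, i < n → π (C.S i) = C.S i := by
    rcases hdir with hd | hd
    · -- the same direction
      have hmidfix : ∀ i, 0 < i → i + 1 < n → π (C.S i) = C.S i := fun i i0 i1 => by
        rw [(hp i i0 i1).2.2, hd i i0 i1]
      have h0 := hend 0 1 (by omega) (Or.inl ⟨rfl, rfl⟩) 0 1 (Or.inl ⟨rfl, rfl⟩)
        (hmidfix 1 (by omega) (by omega))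
        (fun k hk hne => ⟨k, by omega, by omega, hmidfix k (by omega) (by omega), by omega⟩)
      have hl := hend (n - 1) (n - 2) (by omega) (Or.inr ⟨rfl, rfl⟩) (n - 1) (n - 2)
        (Or.inr ⟨rfl, rfl⟩) (hmidfix _ (by omega) (by omega))
        (fun k hk hne => ⟨k, by omega, by omega, hmidfix k (by omega) (by omega), by omega⟩)
      have hzz : ∀ k, (¬(¬(C.m (π (C.S 0)) k ↔ k = 2) ↔ C.m (π (C.S (n - 1))) k)) ↔
          (k = 0 ∨ k = 2 ∨ k = n - 1) := by
        intro k
        rw [← C.S_iff 2 (by omega) k, ← hmidfix 2 (by omega) (by omega), ← C.mul, ← C.mul,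
          ← map_mul, ← map_mul]
        show C.m (π C.z) k ↔ _
        rw [hz, C.z_iff hn]
        simp only [hmidfix 2 (by omega) (by omega), C.S_iff 2 (show 2 < n by omega)]
      have hA : π (C.S 0) = C.S 0 := C.ext _ _ fun k => by
        have := hzz k; have := h0 k; have := hl k
        rw [C.S_iff 0 (by omega)]
        by_cases A : C.m (π (C.S 0)) k <;> by_cases B : C.m (π (C.S (n - 1))) k <;>
          simp only [A, B, true_iff, false_iff, iff_false, iff_true, true_implies, false_implies] at * <;>
          omega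
      have hB : π (C.S (n - 1)) = C.S (n - 1) := C.ext _ _ fun k => by
        have := hzz k; have := h0 k; have := hl k
        rw [C.S_iff (n - 1) (by omega)]
        by_cases A : C.m (π (C.S 0)) k <;> by_cases B : C.m (π (C.S (n - 1))) k <;>
          simp only [A, B, true_iff, false_iff, iff_false, iff_true, true_implies, false_implies] at * <;>
          omega
      intro i hi
      rcases Nat.eq_zero_or_pos i with rfl | i0
      · exact hA
      by_cases i1 : i + 1 < n
      · exact hmidfix i i0 i1
      · rw [show i = n - 1 by omega]; exact hB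
    · -- the opposite direction is impossible
      exfalso
      have hrev : ∀ i, 0 < i → i + 1 < n → π (C.S i) = C.S (n - 1 - i) := fun i i0 i1 => by
        rw [(hp i i0 i1).2.2, show p i = n - 1 - i by have := hd i i0 i1; omega]
      have h0 := hend 0 1 (by omega) (Or.inl ⟨rfl, rfl⟩) (n - 1) (n - 2) (Or.inr ⟨rfl, rfl⟩)
        (by rw [hrev 1 (by omega) (by omega), show n - 1 - 1 = n - 2 by omega])
        (fun k hk hne => ⟨n - 1 - k, by omega, by omega, by
          rw [hrev _ (by omega) (by omega), show n - 1 - (n - 1 - k) = k by omega], by omega⟩)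
      have hl := hend (n - 1) (n - 2) (by omega) (Or.inr ⟨rfl, rfl⟩) 0 1 (Or.inl ⟨rfl, rfl⟩)
        (by rw [hrev _ (by omega) (by omega), show n - 1 - (n - 2) = 1 by omega])
        (fun k hk hne => ⟨n - 1 - k, by omega, by omega, by
          rw [hrev _ (by omega) (by omega), show n - 1 - (n - 1 - k) = k by omega], by omega⟩)
      have hzz : C.m C.z (n - 3) := by
        rw [← hz, Coord.z, map_mul, map_mul, C.mul, C.mul, hrev 2 (by omega) (by omega),
          C.S_iff _ (show n - 1 - 2 < n by omega)]
        have := h0 (n - 3); have := hl (n - 3)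
        by_cases A : C.m (π (C.S 0)) (n - 3)
        · exfalso; have := h0 _ A; omega
        by_cases B : C.m (π (C.S (n - 1))) (n - 3)
        · exfalso; have := hl _ B; omega
        simp only [A, B, false_iff, iff_false, not_not]
        omega
      rw [C.z_iff hn] at hzz
      omega
  have h := MonoidHom.eqOn_closure (f := π.toMonoidHom) (g := MonoidHom.id T)
    (s := {t | ∃ i, i < n ∧ t = C.S i}) (by rintro _ ⟨i, hi, rfl⟩; exact hfix i hi)
    (C.gen ▸ Subgroup.mem_top t : t ∈ Subgroup.closure {t | ∃ i, i < n ∧ t = C.S i})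
  exact h

theorem four_mul_lt_two_pow : ∀ n : ℕ, 6 ≤ n → 8 * n + 4 < 2 ^ n := by
  intro n hn
  induction n, hn using Nat.le_induction with
  | base => norm_num
  | succ n hn ih =>
    have : 2 ^ (n + 1) = 2 * 2 ^ n := by ring
    omega

/-- The rigid set for at least sixty-four elements. -/
theorem rigid_of_six {T : Type u} [CommGroup T] [Finite T] (C : Coord T n) (hn : 6 ≤ n)
    (hT : ∀ t : T, t * t = 1) :
    ∃ Δ : Finset T, 1 ∉ Δ ∧ Subgroup.closure (Δ : Set T) = ⊤ ∧
      Subgroup.closure {u : T | u ∈ Δ ∧ Subgroup.closure {v : T | v ∈ Δ ∧ u * v ∈ Δ} = ⊤} = ⊤ ∧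
      ∀ π : T ≃* T, (∀ t : T, π t ∈ Δ ↔ t ∈ Δ) → ∀ t : T, π t = t := by
  classical
  haveI := Fintype.ofFinite T
  let Y : Finset T := Finset.univ.filter C.InY
  let Δ : Finset T := Finset.univ.filter fun t => t ≠ 1 ∧ ¬ C.InY t
  have hY : Y.card ≤ 2 * n := by
    have hsub : Y ⊆ (Finset.range n).image C.S ∪ (Finset.range (n - 1)).image C.E ∪ {C.z} := by
      intro y hy
      rcases (Finset.mem_filter.1 hy).2 with ⟨i, hi, rfl⟩ | ⟨i, hi, rfl⟩ | rfl <;>
        simp only [Finset.mem_union, Finset.mem_image, Finset.mem_range, Finset.mem_singleton]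
      · exact Or.inl (Or.inl ⟨i, hi, rfl⟩)
      · exact Or.inl (Or.inr ⟨i, by omega, rfl⟩)
      · exact Or.inr trivial
    have h1 := Finset.card_union_le ((Finset.range n).image C.S ∪ (Finset.range (n - 1)).image C.E) {C.z}
    have h2 := Finset.card_union_le ((Finset.range n).image C.S) ((Finset.range (n - 1)).image C.E)
    have h3 := Finset.card_image_le (s := Finset.range n) (f := C.S)
    have h4 := Finset.card_image_le (s := Finset.range (n - 1)) (f := C.E)
    have h5 := Finset.card_le_card hsub
    simp only [Finset.card_range, Finset.card_singleton] at h1 h3 h4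
    omega
  have hN : Fintype.card T = 2 ^ n := by rw [← Nat.card_eq_fintype_card]; exact C.card
  have hbig := four_mul_lt_two_pow n hn
  have hgood : ∀ u ∈ Δ, Subgroup.closure {v : T | v ∈ Δ ∧ u * v ∈ Δ} = ⊤ := by
    intro u _
    refine closure_eq_top_of_card _ ?_
    rw [Nat.card_eq_fintype_card, hN, Nat.card_eq_fintype_card, ← Set.toFinset_card]
    set A := {v : T | v ∈ Δ ∧ u * v ∈ Δ}.toFinset with hA
    have hsub : Finset.univ ⊆ A ∪ ({1, u} ∪ Y ∪ Y.image (u * ·)) := by
      intro v _
      by_cases h : v ∈ Δ ∧ u * v ∈ Δ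
      · exact Finset.mem_union_left _ (Set.mem_toFinset.2 h)
      refine Finset.mem_union_right _ ?_
      simp only [Δ, Y, Finset.mem_filter, Finset.mem_univ, true_and] at h
      simp only [Finset.mem_union, Finset.mem_insert, Finset.mem_singleton, Finset.mem_image, Y,
        Finset.mem_filter, Finset.mem_univ, true_and]
      by_cases h1 : v = 1
      · exact Or.inl (Or.inl (Or.inl h1))
      by_cases h2 : C.InY v
      · exact Or.inl (Or.inr h2)
      by_cases h3 : u * v = 1
      · refine Or.inl (Or.inl (Or.inr ?_))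
        have h4 : u * v * v = v := by rw [h3, one_mul]
        rw [mul_assoc, hT, mul_one] at h4
        exact h4.symm
      exact Or.inr ⟨u * v, by_contra fun h' => h ⟨⟨h1, h2⟩, h3, h'⟩, by rw [← mul_assoc, hT, one_mul]⟩
    have h1 := Finset.card_le_card hsub
    have h2 := Finset.card_union_le A ({1, u} ∪ Y ∪ Y.image (u * ·))
    have h3 := Finset.card_union_le ({1, u} ∪ Y) (Y.image (u * ·))
    have h4 := Finset.card_union_le ({1, u} : Finset T) Y
    have h5 := Finset.card_image_le (s := Y) (f := (u * ·))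
    have h6 : ({1, u} : Finset T).card ≤ 2 := Finset.card_le_two
    rw [Finset.card_univ, hN] at h1
    omega
  have hgen : Subgroup.closure (Δ : Set T) = ⊤ := by
    refine closure_eq_top_of_card _ ?_
    rw [Nat.card_eq_fintype_card, hN, Nat.card_eq_fintype_card]
    simp only [Fintype.card_coe, Finset.coe_sort_coe]
    have hsub : Finset.univ ⊆ Δ ∪ ({1} ∪ Y) := by
      intro v _
      simp only [Δ, Y, Finset.mem_union, Finset.mem_filter, Finset.mem_univ, true_and,
        Finset.mem_singleton]
      by_cases h1 : v = 1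
      · exact Or.inr (Or.inl h1)
      by_cases h2 : C.InY v
      · exact Or.inr (Or.inr h2)
      exact Or.inl ⟨h1, h2⟩
    have h1 := Finset.card_le_card hsub
    have h2 := Finset.card_union_le Δ ({1} ∪ Y)
    have h3 := Finset.card_union_le ({1} : Finset T) Y
    rw [Finset.card_univ, hN] at h1
    rw [Finset.card_singleton] at h3
    omega
  refine ⟨Δ, by simp [Δ], hgen, ?_, fun π hπ => C.rigid hn hT π fun t => ?_⟩
  · rw [eq_top_iff, ← hgen, Subgroup.closure_le]
    exact fun u hu => Subgroup.subset_closure ⟨hu, hgen.symm ▸ hgood u hu⟩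
  · rcases eq_or_ne t 1 with rfl | ht
    · rw [map_one]
    have := hπ t
    have hne : π t ≠ 1 := fun h => ht (π.injective (h.trans (map_one π).symm))
    simp only [Δ, Finset.mem_filter, Finset.mem_univ, true_and, ne_eq, hne, ht, not_false_eq_true,
      not_iff_not] at this
    exact this

end Cfsg.Agent.H86.BaseTwo
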