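import Cfsg.Agent.H86.BaseTwo.Step
import Cfsg.Agent.H86.BaseTwo.RigidPath
import Cfsg.Agent.H67.BaseTwo.RigidFive
import Cfsg.Agent.H67.BaseTwo.RigidSmall
import Cfsg.Agent.H94.BaseTwo.SmallModels

/-!
Two vectors with trivial common stabiliser for solvable linear groups of order prime to an odd
characteristic.
-/

set_option autoImplicit false

namespace Cfsg.Agent.H86.BaseTwo

universe u

theorem rigidLarge : RigidLarge.{u} := by
  intro T _ _ hT h32
  obtain ⟨n, ⟨C⟩⟩ := exists_coord T hT
  by_cases hn : 6 ≤ n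
  · exact rigid_of_six C hn hT
  · have h5 : n = 5 := by
      by_contra h
      have : 2 ^ n ≤ 2 ^ 4 := Nat.pow_le_pow_right two_pos (by omega)
      have := C.card
      omega
    subst h5
    exact Cfsg.Agent.H67.BaseTwo.rigid_five T hT C.card

theorem main : Main.{u} :=
  main_of rigidLarge Cfsg.Agent.H67.BaseTwo.rigidSmall Cfsg.Agent.H94.BaseTwo.smallModels

end Cfsg.Agent.H86.BaseTwo
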