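import Cfsg.Agent.H86.BaseTwo.Cosets

/-!
Parts for the prime two when every coset has order two: supported by a rigid set, full with one
colour, and full with the two colours of a set rigid against a stabiliser.
-/

set_option autoImplicit false
set_option linter.unusedSectionVars false
set_option linter.style.haveILetI false

namespace Cfsg.Agent.H86.BaseTwo

open Cfsg.Agent.H86.BaseThree

universe u

variable {G : Type u} [Group G] [Finite G] {V : Type u} [AddCommGroup V] [DistribMulAction G V]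
  [Finite V] [Nontrivial V] [FaithfulSMul G V] {K : Type u} [Field K] [Finite K] [Module K V]
  {L : Layer G V K} {x : V}

theorem orderOf_two {T : Type*} [CommGroup T] (hT : ∀ t : T, t * t = 1) {t : T} (ht : t ≠ 1) :
    orderOf t = 2 :=
  (orderOf_eq_iff_of_prime Nat.prime_two t).2 ⟨by rw [sq]; exact hT t, ht⟩

theorem one_le_card_range (m : ℕ) : 1 ≤ Nat.card (powMonoidHom (α := Kˣ) m).range :=
  Nat.card_pos

/-- A part supported by a rigid set. -/
theorem exists_part_of_rigid (hx : x ≠ 0) (C : Cosets L x) (hT : ∀ t : C.T, t * t = 1)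
    (hlarge : RigidLarge.{u}) (hcard : 32 ≤ Nat.card C.T) : Nonempty (Part C 2) := by
  classical
  obtain ⟨Δ, h1, -, hpair, hrig⟩ := hlarge C.T hT hcard
  have hne : ∀ t ∈ Δ, t ≠ 1 := fun t ht h => h1 (h ▸ ht)
  refine exists_part_of_colour hx C Nat.prime_two 2 (by decide) (n := 1) (one_le_card_range _)
    (fun t => if t ∈ Δ then some 0 else none) (fun g π hM hc t ht => hrig π (fun s => ?_) t)
    {u | u ∈ Δ ∧ Subgroup.closure {v : C.T | v ∈ Δ ∧ u * v ∈ Δ} = ⊤}
    (fun u hu => ⟨orderOf_two hT (hne u hu.1), by simp [hu.1]⟩)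
    (fun t _ => by rw [hpair]; exact Subgroup.mem_top t) (fun u hu t _ => ?_)
  · rcases eq_or_ne s 1 with rfl | hs
    · rw [map_one]
    · have := hc s (orderOf_two hT hs)
      split_ifs at this with ha hb <;> simp_all
  · refine Subgroup.closure_mono ?_ (show t ∈ Subgroup.closure {v : C.T | v ∈ Δ ∧ u * v ∈ Δ} by
      rw [hu.2]; exact Subgroup.mem_top t)
    rintro v ⟨hv, huv⟩
    exact ⟨⟨orderOf_two hT (hne v hv), by simp [hv]⟩,
      Or.inl ⟨orderOf_two hT (hne _ huv), by simp [huv]⟩⟩

/-- A part with full support from a colouring rigid against the stabiliser. -/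
theorem exists_part_full (hx : x ≠ 0) (C : Cosets L x) (hT : ∀ t : C.T, t * t = 1) {n : ℕ}
    (hn : n ≤ Nat.card (powMonoidHom (α := Kˣ) (2 * 2)).range) (κ : C.T → Fin n)
    (hrig : ∀ (g : G) (π : C.T ≃* C.T), Moves C g π →
      (∀ t : C.T, t ≠ 1 → κ (π t) = κ t) → ∀ t, π t = t) : Nonempty (Part C 2) := by
  classical
  have hone : ∀ t : C.T, orderOf t = 2 → t ≠ 1 := fun t ht =>
    ((orderOf_eq_iff_of_prime Nat.prime_two t).1 ht).2
  refine exists_part_of_colour hx C Nat.prime_two 2 (by decide) hn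
    (fun t => some (κ t))
    (fun g π hM hc t _ => hrig g π hM (fun s hs => Option.some.inj (hc s (orderOf_two hT hs))) t)
    {t | t ≠ 1} (fun u hu => ⟨orderOf_two hT hu, by simp⟩)
    (fun t ht => Subgroup.subset_closure (hone t ht)) (fun u _ t ht => ?_)
  refine Subgroup.subset_closure ⟨⟨ht, by simp⟩, ?_⟩
  by_cases h : u * t = 1
  · exact Or.inr h
  · exact Or.inl ⟨orderOf_two hT h, by simp⟩

theorem fixed_of_card_le_two {T : Type*} [Group T] [Finite T] (h : Nat.card T ≤ 2) (π : T ≃* T)
    (t : T) : π t = t := by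
  classical
  haveI := Fintype.ofFinite T
  rcases eq_or_ne t 1 with rfl | ht
  · exact map_one π
  by_contra hne
  have h1 : π t ≠ 1 := fun h => ht (π.injective (h.trans (map_one π).symm))
  rw [Nat.card_eq_fintype_card] at h
  have : ({1, t, π t} : Finset T).card = 3 :=
    Finset.card_eq_three.2 ⟨1, t, π t, ht.symm, h1.symm, Ne.symm hne, rfl⟩
  have := this ▸ Finset.card_le_univ ({1, t, π t} : Finset T)
  omega

/-- A part when there are at most two cosets. -/
theorem exists_part_le_two (hx : x ≠ 0) (C : Cosets L x) (hT : ∀ t : C.T, t * t = 1)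
    (h : Nat.card C.T ≤ 2) : Nonempty (Part C 2) :=
  exists_part_full hx C hT (n := 1) (one_le_card_range _) (fun _ => 0)
    fun _ π _ _ t => fixed_of_card_le_two h π t

/-- A part with two colours, in small groups prime to three. -/
theorem exists_part_small (hx : x ≠ 0) (C : Cosets L x) (hT : ∀ t : C.T, t * t = 1)
    (hsmall : RigidSmall.{u}) (hcard : Nat.card C.T ≤ 16) (hG : ¬ 3 ∣ Nat.card G)
    (hn : 2 ≤ Nat.card (powMonoidHom (α := Kˣ) (2 * 2)).range) : Nonempty (Part C 2) := by
  classical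
  choose perm hperm using C.exists_perm
  have huniq : ∀ (g : G) (hg : g • x = x) (π : C.T ≃* C.T), (∀ (e : G) (he : e ∈ L.E),
      C.cls ⟨g * e * g⁻¹, L.E_normal.conj_mem e he g⟩ = π (C.cls ⟨e, he⟩)) →
        π = perm g hg := by
    intro g hg π hπ
    ext t
    have h1 := hπ _ (C.r_mem t)
    have h2 := hperm g hg _ (C.r_mem t)
    rw [h1] at h2
    simpa [Cosets.r, C.cls_rep] using h2
  let act : MulAction.stabilizer G x →* MulAut C.T := MonoidHom.mk'
    (fun g => perm g g.2) fun g g' => by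
      refine (huniq _ _ (perm g g.2 * perm g' g'.2) fun e he => ?_).symm
      rw [MulAut.mul_apply, ← hperm g' g'.2 e he, ← hperm g g.2]
      congr 1
      exact Subtype.ext (by simp [mul_assoc])
  have h3 : ¬ 3 ∣ Nat.card act.range := fun h => hG
    ((h.trans (Subgroup.card_range_dvd act)).trans (Subgroup.card_subgroup_dvd_card _))
  obtain ⟨Δ, -, hrig⟩ := hsmall C.T hT hcard act.range h3
  refine exists_part_full hx C hT hn (fun t => if t ∈ Δ ∧ t ≠ 1 then 0 else 1) fun g π hM hc t => ?_
  have hπ : π = perm g hM.fix := huniq g hM.fix π hM.cls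
  have hΔ1 : ∀ s : C.T, π s ∈ Δ ↔ s ∈ Δ := by
    intro s
    rcases eq_or_ne s 1 with rfl | hs
    · rw [map_one]
    have := hc s hs
    have hπs : π s ≠ 1 := fun h => hs (π.injective (h.trans (map_one π).symm))
    by_cases ha : π s ∈ Δ <;> by_cases hb : s ∈ Δ <;> simp [ha, hb, hs, hπs] at this <;> simp [ha, hb]
  have := hrig π ⟨⟨g, hM.fix⟩, hπ.symm⟩ hΔ1
  rw [this]
  rfl

end Cfsg.Agent.H86.BaseTwo
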