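import Cfsg.Agent.H86.BaseTwo.PlaneQuot
import Cfsg.Agent.H86.BaseTwo.TwoParts

/-!
The part over three elements when a plane carries a quaternion group and there are eight or sixteen
cosets: the coset chooses one of the four lines of its plane.
-/

set_option autoImplicit false
set_option linter.unusedSectionVars false
set_option linter.style.haveILetI false

namespace Cfsg.Agent.H86.BaseTwo

open Cfsg.Agent.H86.BaseThree

universe u

variable {G : Type u} [Group G] [Finite G] {V : Type u} [AddCommGroup V] [DistribMulAction G V]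
  [Finite V] [Nontrivial V] [FaithfulSMul G V] {K : Type u} [Field K] [Finite K] [Module K V]
  {L : Layer G V K} {x : V}

/-- A colouring of a small group of exponent two by the elements of a four group and a blank, which
is rigid up to linear shifts. -/
def PlaneColour : Prop :=
  ∀ (T Q : Type u) [CommGroup T] [Finite T] [CommGroup Q] [Finite Q], (∀ t : T, t * t = 1) →
    (Nat.card T = 8 ∨ Nat.card T = 16) → (∀ q : Q, q * q = 1) → Nat.card Q = 4 →
    ∃ (F : T → Option Q) (Gen : Finset T), 1 ∉ Gen ∧ Subgroup.closure (Gen : Set T) = ⊤ ∧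
      (∀ s ∈ Gen, F s ≠ none) ∧
      (∀ u ∈ Gen, Subgroup.closure {v : T | F v ≠ none ∧ (F (u * v) ≠ none ∨ u * v = 1)} = ⊤) ∧
      ∀ (π : T ≃* T) (L : T →* Q), (∀ t, t ≠ 1 → F (π t) = (F t).map (L t * ·)) → ∀ t, π t = t

theorem exists_part_plane (hx : x ≠ 0) (C : Cosets L x) (hT : ∀ t : C.T, t * t = 1)
    (hcol : PlaneColour.{u}) (hcard : Nat.card C.T = 8 ∨ Nat.card C.T = 16)
    (h3 : Nat.card K = 3) {r : G} (hr : r ∈ L.lineCent x) (hry : ∀ k : K, r • x ≠ k • x)
    (hplane : ∀ ρ ∈ L.lineCent x, ∃ k l : K, ρ • x = k • x + l • r • x)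
    (hsq : ∀ ρ ∈ L.lineCent x, ρ * ρ ∈ L.lineStab x)
    (hfixed : ∀ ρ ∈ L.lineCent x, ∀ k l : K, ρ • (k • x + l • r • x) = k • x + l • r • x →
      k • x + l • r • x ≠ 0 → ρ • x = x) :
    Nonempty (Part C 2) := by
  classical
  obtain ⟨S⟩ := exists_stabQuot L x
  have hW := S.sq_eq_one C hT hsq
  obtain ⟨F, Gen, h1, hgen, hFgen, hFpair, hrig⟩ := hcol C.T S.Q hT hcard
    (fun q => Subtype.ext (hW q.1)) (S.card_Q hx h3 hr hry hplane hW)
  obtain ⟨sec, hsec⟩ := S.exists_section hx C hW
  choose ρ hρR hρp using fun q : S.Q => (show ∃ e : L.E, (e : G) ∈ L.lineCent x ∧ S.proj e = q from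
    let ⟨e, he, h⟩ := q.2
    ⟨e, Subgroup.mem_subgroupOf.1 he, h⟩)
  choose h hh using fun t : C.T => S.surjective (sec t)
  have hcls : ∀ t, C.cls (h t) = t := fun t => hsec t _ (hh t)
  let w : C.T → V := fun t => (F t).elim 0 fun q => (h t * ρ q : L.E) • x
  have hwsome : ∀ t q, F t = some q → w t = ((h t * ρ q : L.E) : G) • x := fun t q hq => by
    simp only [w, hq, Option.elim_some]
    rfl
  have hwnone : ∀ t, F t = none → w t = 0 := fun t hq => by simp [w, hq]
  have hne : ∀ e : G, e • x ≠ 0 := fun e => by rw [Ne, smul_eq_zero_iff_eq]; exact hx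
  have hwR : ∀ t q, (C.r t)⁻¹ * ((h t * ρ q : L.E) : G) ∈ L.lineCent x := fun t q =>
    C.mem_of_cls_eq (h t * ρ q).2 (by
      rw [Subtype.coe_eta, map_mul, hcls, (C.cls_eq_one _).2 (hρR q), mul_one])
  refine ⟨⟨w, fun t => ?_, fun g π hM hw => ?_, ?_⟩⟩
  · rcases hF : F t with _ | q
    · rw [hwnone t hF]; exact Submodule.zero_mem _
    · rw [hwsome t q hF]
      exact L.orbit_mem_eig_of_class (h t * ρ q).2 (hwR t q)
  · -- rigidity
    have hginv : g⁻¹ • x = x := inv_smul_eq_iff.2 hM.fix.symm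
    haveI := L.E_normal
    let cg : L.E ≃* L.E := MulAut.conjNormal g
    have hcg : ∀ e : L.E, ((cg e : L.E) : G) = g * e * g⁻¹ := fun e => MulAut.conjNormal_apply g e
    have hstab : ∀ e : L.E, S.proj e = 1 → S.proj (cg e) = 1 := fun e he =>
      (S.mk_eq_one _).2 (by rw [hcg]; exact lineStab_conj hM.fix ((S.mk_eq_one e).1 he))
    have hwd : ∀ e f : L.E, S.proj e = S.proj f → S.proj (cg e) = S.proj (cg f) := fun e f he =>
      eq_of_mul_inv_eq_one (by
        rw [← map_inv, ← map_mul, ← map_inv cg, ← map_mul cg]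
        exact hstab _ (by rw [map_mul, map_inv, he, mul_inv_cancel]))
    have hclscg : ∀ t, C.cls (cg (h t)) = π t := fun t => by
      have h2 := hM.cls _ (h t).2
      rw [Subtype.coe_eta, hcls] at h2
      rw [← h2]
      exact congrArg C.cls (Subtype.ext (hcg _))
    have hLmem : ∀ t, S.proj (cg (h t)) * (sec (π t))⁻¹ ∈ S.Q := fun t => by
      rw [← hh (π t), ← map_inv, ← map_mul, S.mk_mem_Q_iff hx]
      refine (C.cls_eq_one _).1 ?_
      rw [map_mul, map_inv, hclscg, hcls, mul_inv_cancel]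
    let Lsh : C.T →* S.Q := MonoidHom.mk'
      (fun t => ⟨S.proj (cg (h t)) * (sec (π t))⁻¹, hLmem t⟩) fun a b => Subtype.ext (by
        show S.proj (cg (h (a * b))) * (sec (π (a * b)))⁻¹ = _
        show _ = S.proj (cg (h a)) * (sec (π a))⁻¹ * (S.proj (cg (h b)) * (sec (π b))⁻¹)
        rw [hwd (h (a * b)) (h a * h b) (by rw [map_mul, hh, hh, hh, map_mul]), map_mul cg, map_mul,
          map_mul π, map_mul sec, mul_inv, mul_mul_mul_comm])
    have key : ∀ t, t ≠ 1 → F (π t) = (F t).map (Lsh t * ·) := by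
      intro t ht
      have hw' := hw t (orderOf_two hT ht)
      rcases hF : F t with _ | a <;> rcases hF' : F (π t) with _ | b
      · rfl
      · rw [hwnone t hF, hwsome _ b hF', smul_zero] at hw'
        exact absurd hw'.symm (hne _)
      · rw [hwsome t a hF, hwnone _ hF', ← mul_smul] at hw'
        exact absurd hw' (hne _)
      rw [hwsome t a hF, hwsome _ b hF'] at hw'
      have hgx : g • ((h t * ρ a : L.E) : G) • x = ((cg (h t) * ρ a : L.E) : G) • x := by
        rw [Subgroup.coe_mul, Subgroup.coe_mul, hcg, mul_smul, mul_smul (g * (h t : G) * g⁻¹),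
          mul_smul, mul_smul]
        congr 2
        rw [eq_comm, inv_smul_eq_iff, hM.plane _ (hρR a)]
      rw [hgx] at hw'
      have h1 : S.proj (cg (h t) * ρ a) = S.proj (h (π t) * ρ b) := eq_of_mul_inv_eq_one (by
        rw [mul_comm (S.proj (cg (h t) * ρ a)), ← map_inv, ← map_mul]
        refine (S.mk_eq_one _).2 ⟨SetLike.coe_mem _, 1, ?_⟩
        rw [one_smul, Subgroup.coe_mul, mul_smul, hw', Subgroup.coe_inv, inv_smul_smul])
      rw [map_mul, map_mul, hρp, hρp, hh] at h1
      simp only [Option.map_some, Option.some.injEq]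
      refine Subtype.ext ?_
      show (b : S.W) = S.proj (cg (h t)) * (sec (π t))⁻¹ * a
      rw [mul_right_comm, h1, mul_comm (sec (π t)) (b : S.W), mul_inv_cancel_right]
    exact fun t _ => hrig π Lsh key t
  · refine ⟨{t | F t ≠ none ∧ t ≠ 1}, (Gen : Set C.T),
      fun t ht => ⟨hFgen t ht, fun e => h1 (e ▸ ht)⟩, fun t _ => hgen ▸ Subgroup.mem_top t,
      fun u hu => ⟨orderOf_two hT fun e => h1 (e ▸ hu), fun t _ => ?_⟩, fun g π hM hπ hw t ht => ?_⟩
    · have hle : Subgroup.closure {v : C.T | F v ≠ none ∧ (F (u * v) ≠ none ∨ u * v = 1)} ≤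
          Subgroup.closure {v : C.T | (F v ≠ none ∧ v ≠ 1) ∧
            ((F (u * v) ≠ none ∧ u * v ≠ 1) ∨ u * v = 1)} := by
        rw [Subgroup.closure_le]
        rintro v ⟨hv, huv⟩
        rcases eq_or_ne v 1 with rfl | hv1
        · exact one_mem _
        refine Subgroup.subset_closure ⟨⟨hv, hv1⟩, ?_⟩
        by_cases h' : u * v = 1
        · exact Or.inr h'
        · exact Or.inl ⟨huv.resolve_right h', h'⟩
      exact hle (hFpair u hu ▸ Subgroup.mem_top t)
    · -- the fixed plane vector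
      have hginv : g⁻¹ • x = x := inv_smul_eq_iff.2 hM.fix.symm
      obtain ⟨q, hq⟩ := Option.ne_none_iff_exists'.1 ht.1
      have hw' := hw t (orderOf_two hT ht.2)
      rw [hwsome t q hq] at hw'
      set ρ' := (C.r t)⁻¹ * ((h t * ρ q : L.E) : G) with hρ'
      set α := (C.r t)⁻¹ * (g * C.r t * g⁻¹) with hα
      have hαR : α ∈ L.lineCent x := C.mem_of_cls_eq (L.E_normal.conj_mem _ (C.r_mem t) g) (by
        rw [hM.cls _ (C.r_mem t), hπ]; exact C.cls_rep t)
      obtain ⟨k, l, hkl⟩ := hplane ρ' (hwR t q)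
      have hg' : g⁻¹ • ρ' • x = ρ' • x := by
        rw [inv_smul_eq_iff, hM.plane ρ' (hwR t q)]
      have hαfix : α • ρ' • x = ρ' • x := by
        rw [hα, mul_smul, mul_smul, mul_smul, hg', show C.r t • ρ' • x =
          ((h t * ρ q : L.E) : G) • x by rw [hρ', ← mul_smul, mul_inv_cancel_left], hw', hρ',
          ← mul_smul]
      have hα1 : α • x = x := by
        refine hfixed α hαR k l ?_ ?_
        · rw [← hkl, hαfix]
        · rw [← hkl]; exact hne _
      calc g • C.r t • x = (g * C.r t * g⁻¹) • x := by rw [mul_smul, mul_smul, hginv]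
        _ = C.r t • α • x := by rw [hα, ← mul_smul, mul_inv_cancel_left]
        _ = C.r t • x := by rw [hα1]

end Cfsg.Agent.H86.BaseTwo
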