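import Cfsg.Agent.H86.BaseTwo.Cosets

/-!
The layer modulo a line stabiliser when every coset has order two: an elementary abelian group with a
complement to the centraliser of the stabiliser, which has order four modulo it in the plane case over
three elements.
-/

set_option autoImplicit false
set_option linter.unusedSectionVars false
set_option linter.style.haveILetI false

namespace Cfsg.Agent.H86.BaseTwo

open Cfsg.Agent.H86.BaseThree

universe u

variable {G : Type u} [Group G] [Finite G] {V : Type u} [AddCommGroup V] [DistribMulAction G V]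
  [Finite V] [Nontrivial V] [FaithfulSMul G V] {K : Type u} [Field K] [Finite K] [Module K V]
  {L : Layer G V K} {x : V}

/-- A complement in a group of exponent two. -/
theorem exists_complement {W : Type*} [CommGroup W] [Finite W] (hW : ∀ w : W, w * w = 1)
    (Q : Subgroup W) : ∃ H : Subgroup W, H ⊓ Q = ⊥ ∧ H ⊔ Q = ⊤ := by
  classical
  obtain ⟨H, hH, hmax⟩ := (Set.toFinite {H : Subgroup W | H ⊓ Q = ⊥}).exists_maximal
    ⟨⊥, bot_inf_eq Q⟩
  refine ⟨H, hH, eq_top_iff.2 fun e _ => ?_⟩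
  by_contra he
  have hle : H ⊔ Subgroup.zpowers e ≤ H := hmax (y := H ⊔ Subgroup.zpowers e) (by
    refine (Subgroup.eq_bot_iff_forall _).2 fun w hw => ?_
    obtain ⟨hw1, hw2⟩ := Subgroup.mem_inf.1 hw
    obtain ⟨h, hh, y, hy, rfl⟩ := Subgroup.mem_sup.1 hw1
    obtain ⟨j, rfl⟩ := Subgroup.mem_zpowers_iff.1 hy
    have he2 : e ^ (2 : ℤ) = 1 := by rw [zpow_two]; exact hW e
    rcases Int.even_or_odd j with ⟨i, rfl⟩ | ⟨i, rfl⟩
    · rw [← two_mul, zpow_mul, he2, one_zpow, mul_one] at hw2 ⊢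
      exact (Subgroup.eq_bot_iff_forall _).1 hH h ⟨hh, hw2⟩
    · exfalso
      rw [zpow_add, zpow_mul, he2, one_zpow, one_mul, zpow_one] at hw2
      exact he (Subgroup.mem_sup.2 ⟨h⁻¹, H.inv_mem hh, h * e, hw2, inv_mul_cancel_left h e⟩))
    le_sup_left
  exact he (Subgroup.mem_sup_left (hle (Subgroup.mem_sup_right (Subgroup.mem_zpowers e))))

/-- The layer modulo the line stabiliser. -/
structure StabQuot (L : Layer G V K) (x : V) where
  W : Type u
  [comm : CommGroup W]
  [finite : Finite W]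
  proj : L.E →* W
  surjective : Function.Surjective proj
  mk_eq_one : ∀ e : L.E, proj e = 1 ↔ (e : G) ∈ L.lineStab x

attribute [instance] StabQuot.comm StabQuot.finite

theorem exists_stabQuot (L : Layer G V K) (x : V) : Nonempty (StabQuot L x) := by
  classical
  set A := L.lineStab x with hA
  haveI := L.E_normal
  let AE : Subgroup L.E := A.subgroupOf L.E
  haveI : AE.Normal := ⟨fun t ht e => by
    rw [Subgroup.mem_subgroupOf] at ht ⊢
    have h := A.mul_mem (L.U_le_lineStab x (L.commutator_mem (e : G) e.2 (t : G) t.2)) ht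
    rw [inv_mul_cancel_right] at h
    simpa using h⟩
  let W := L.E ⧸ AE
  letI : CommGroup W :=
    { (inferInstance : Group W) with
      mul_comm := fun a b => by
        induction a using QuotientGroup.induction_on with
        | _ p =>
          induction b using QuotientGroup.induction_on with
          | _ q =>
            refine (QuotientGroup.eq).2 (Subgroup.mem_subgroupOf.2 (L.U_le_lineStab x ?_))
            have := L.commutator_mem _ (L.E.inv_mem q.2) _ (L.E.inv_mem p.2)
            simpa [mul_assoc] using this }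
  exact ⟨{ W := W, proj := QuotientGroup.mk' AE, surjective := QuotientGroup.mk'_surjective AE
           mk_eq_one := fun e => (QuotientGroup.eq_one_iff e).trans Subgroup.mem_subgroupOf }⟩

/-- The image of the centraliser of the stabiliser. -/
def StabQuot.Q (S : StabQuot L x) : Subgroup S.W :=
  ((L.lineCent x).subgroupOf L.E).map S.proj

theorem StabQuot.mk_mem_Q_iff (hx : x ≠ 0) (S : StabQuot L x) (e : L.E) :
    S.proj e ∈ S.Q ↔ (e : G) ∈ L.lineCent x := by
  constructor
  · rintro ⟨f, hf, hfe⟩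
    have h : S.proj (f⁻¹ * e) = 1 := by rw [map_mul, map_inv, hfe, inv_mul_cancel]
    have := (L.lineCent x).mul_mem (Subgroup.mem_subgroupOf.1 hf)
      (L.lineStab_le_lineCent hx ((S.mk_eq_one _).1 h))
    simpa using this
  · exact fun h => ⟨e, Subgroup.mem_subgroupOf.2 h, rfl⟩

/-- The quotient has exponent two. -/
theorem StabQuot.sq_eq_one (S : StabQuot L x) (C : Cosets L x) (hT : ∀ t : C.T, t * t = 1)
    (hsq : ∀ ρ ∈ L.lineCent x, ρ * ρ ∈ L.lineStab x) (w : S.W) : w * w = 1 := by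
  obtain ⟨e, rfl⟩ := S.surjective w
  have h4 : S.proj e ^ 4 = 1 := by
    have h1 : C.cls (e * e) = 1 := by rw [map_mul, hT]
    have h2 := hsq _ ((C.cls_eq_one _).1 h1)
    rw [show (4 : ℕ) = 2 * 2 from rfl, pow_mul, ← map_pow, ← map_pow, sq, sq, S.mk_eq_one]
    simpa using h2
  obtain ⟨N, hN, hU⟩ := L.squarefree _ e.2
  have hd : orderOf (S.proj e) ∣ N := orderOf_dvd_of_pow_eq_one (by
    rw [← map_pow, S.mk_eq_one]
    rw [SubgroupClass.coe_pow]
    exact L.U_le_lineStab x hU)
  have h2 : orderOf (S.proj e) ∣ 2 := by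
    have hd4 := orderOf_dvd_of_pow_eq_one h4
    have hsf := hN.squarefree_of_dvd hd
    obtain ⟨i, hi, hi'⟩ := (Nat.dvd_prime_pow Nat.prime_two (m := 2)).1 hd4
    rw [hi'] at hsf ⊢
    obtain rfl | rfl | rfl : i = 0 ∨ i = 1 ∨ i = 2 := by omega
    · exact one_dvd 2
    · exact dvd_rfl
    · exact absurd (Nat.isUnit_iff.1 (hsf 2 (by norm_num))) (by norm_num)
  rw [← sq]
  exact orderOf_dvd_iff_pow_eq_one.1 h2

/-- A homomorphic choice of representatives modulo the stabiliser. -/
theorem StabQuot.exists_section (hx : x ≠ 0) (S : StabQuot L x) (C : Cosets L x)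
    (hW : ∀ w : S.W, w * w = 1) :
    ∃ s : C.T →* S.W, ∀ (t : C.T) (e : L.E), S.proj e = s t → C.cls e = t := by
  classical
  obtain ⟨H, hdis, htop⟩ := exists_complement hW S.Q
  have hex : ∀ t : C.T, ∃ w ∈ H, w⁻¹ * S.proj (C.rep t) ∈ S.Q := by
    intro t
    obtain ⟨w, hw, q, hq, hwq⟩ := Subgroup.mem_sup.1 (htop ▸ Subgroup.mem_top (S.proj (C.rep t)))
    exact ⟨w, hw, by rwa [← hwq, inv_mul_cancel_left]⟩
  choose s hs hsQ using hex
  have huniq : ∀ t, ∀ w ∈ H, w⁻¹ * S.proj (C.rep t) ∈ S.Q → w = s t := by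
    intro t w hw hwQ
    refine inv_mul_eq_one.1 ((Subgroup.eq_bot_iff_forall _).1 hdis _
      ⟨H.mul_mem (H.inv_mem hw) (hs t), ?_⟩)
    have := S.Q.mul_mem hwQ (S.Q.inv_mem (hsQ t))
    simpa [mul_assoc] using this
  refine ⟨MonoidHom.mk' s fun a b => ?_, fun t e he => ?_⟩
  · refine (huniq _ _ (H.mul_mem (hs a) (hs b)) ?_).symm
    have h1 : ((C.rep (a * b) : L.E) : G)⁻¹ * (C.rep a * C.rep b : L.E) ∈ L.lineCent x := by
      rw [← C.cls_eq_iff, map_mul, C.cls_rep, C.cls_rep, C.cls_rep]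
    have h2 : S.proj ((C.rep (a * b))⁻¹ * (C.rep a * C.rep b)) ∈ S.Q :=
      (S.mk_mem_Q_iff hx _).2 (by simpa using h1)
    have h3 := S.Q.mul_mem (S.Q.mul_mem (hsQ a) (hsQ b)) (S.Q.inv_mem h2)
    simp only [map_mul, map_inv, mul_inv_rev, inv_inv] at h3 ⊢
    rw [mul_comm (s b)⁻¹ (s a)⁻¹]
    rw [mul_mul_mul_comm (s a)⁻¹] at h3
    simpa [mul_assoc] using h3
  · have h : S.proj ((C.rep t)⁻¹ * e) ∈ S.Q := by
      rw [map_mul, map_inv, he]
      have := S.Q.inv_mem (hsQ t)
      simpa using this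
    rw [← C.cls_rep t, C.cls_eq_iff]
    simpa using (S.mk_mem_Q_iff hx _).1 h

/-- Over three elements the plane has four lines. -/
theorem StabQuot.card_Q (S : StabQuot L x) (hx : x ≠ 0) (h3 : Nat.card K = 3) {r : G}
    (hr : r ∈ L.lineCent x) (hry : ∀ k : K, r • x ≠ k • x)
    (hplane : ∀ ρ ∈ L.lineCent x, ∃ k l : K, ρ • x = k • x + l • r • x)
    (hW : ∀ w : S.W, w * w = 1) : Nat.card S.Q = 4 := by
  classical
  haveI := Fintype.ofFinite K
  haveI : Fintype S.Q := Fintype.ofFinite S.Q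
  have hrS : ∀ (ρ : G) (hρ : ρ ∈ L.E), S.proj ⟨ρ, hρ⟩ = 1 ↔ ∃ k : K, ρ • x = k • x := fun ρ hρ =>
    (S.mk_eq_one _).trans ⟨fun h => h.2, fun h => ⟨hρ, h⟩⟩
  have hE : ∀ q : S.Q, ∃ e : L.E, (e : G) ∈ L.lineCent x ∧ S.proj e = q := by
    rintro ⟨_, e, he, rfl⟩
    exact ⟨e, Subgroup.mem_subgroupOf.1 he, rfl⟩
  choose e heR hemk using hE
  choose k l hkl using fun q : S.Q => hplane (e q) (heR q)
  -- elements are told apart by the lines
  let f : S.Q → Option K := fun q => if l q = 0 then none else some (k q / l q)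
  have hinj : Function.Injective f := by
    intro q q' h
    have key : ∀ q q' : S.Q, ∀ c : K, (e q' : G) • x = c • (e q : G) • x → q = q' := by
      intro q q' c hc
      refine Subtype.ext ?_
      rw [← hemk, ← hemk, ← inv_mul_eq_one, ← map_inv, ← map_mul]
      refine (hrS _ ((e q)⁻¹ * e q').2).2 ⟨c, ?_⟩
      show ((e q : G)⁻¹ * e q') • x = c • x
      rw [mul_smul, hc, L.linear _ (L.E.inv_mem (e q).2), inv_smul_smul]
    have hl0 : ∀ q, l q = 0 → k q ≠ 0 := fun q hq hk => hx (by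
      have := hkl q
      rw [hq, hk, zero_smul, zero_smul, zero_add, smul_eq_zero_iff_eq] at this
      exact this)
    by_cases hq : l q = 0 <;> by_cases hq' : l q' = 0 <;> simp [f, hq, hq'] at h
    · refine key q q' (k q' / k q) ?_
      rw [hkl, hkl, hq, hq', zero_smul, add_zero, add_zero, smul_smul,
        div_mul_cancel₀ _ (hl0 q hq)]
    · refine key q q' (l q' / l q) ?_
      rw [hkl, hkl, smul_add, smul_smul, smul_smul, div_mul_cancel₀ _ hq]
      congr 2
      field_simp at h ⊢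
      linear_combination -h
  have hle : Fintype.card S.Q ≤ 4 := by
    refine (Fintype.card_le_of_injective f hinj).trans ?_
    rw [Fintype.card_option, ← Nat.card_eq_fintype_card, h3]
  -- more than two elements
  set a : S.Q := ⟨S.proj ⟨r, hr.1⟩, (S.mk_mem_Q_iff hx _).2 hr⟩ with ha
  have ha1 : a ≠ 1 := fun h => by
    obtain ⟨c, hc⟩ := (hrS r hr.1).1 (congrArg Subtype.val h)
    exact hry c hc
  obtain ⟨s, hs, hsr⟩ : ∃ s ∈ L.lineCent x, ¬ s * r = r * s := by
    by_contra hcon
    push Not at hcon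
    exact ha1 (Subtype.ext ((S.mk_eq_one _).2 (L.mem_of_commute_centralizer (L.U_le_lineStab x)
      (L.lineStab_le x) hr.1 fun s hs hsA =>
        hcon s ⟨hs, Subgroup.mem_centralizer_iff.2 hsA⟩)))
  set b : S.Q := ⟨S.proj ⟨s, hs.1⟩, (S.mk_mem_Q_iff hx _).2 hs⟩ with hb
  have hb1 : b ≠ 1 := fun h => hsr
    (L.commute_lineCent hr ((S.mk_eq_one _).1 (congrArg Subtype.val h)))
  have hab : b ≠ a := fun h => by
    have h' : S.proj ⟨s, hs.1⟩ = S.proj ⟨r, hr.1⟩ := congrArg Subtype.val h
    rw [← inv_mul_eq_one, ← map_inv, ← map_mul, S.mk_eq_one] at h'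
    have hc := L.commute_lineCent hr h'
    refine hsr ?_
    simp only [Subgroup.coe_mul, Subgroup.coe_inv] at hc
    have := congrArg (fun z => s * z) hc
    calc s * r = r * (r⁻¹ * s * r) := by group
      _ = r * s := by
        have hc2 : r⁻¹ * s * r = r * (r⁻¹ * s) := by
          have hc3 : s⁻¹ * r * r = r * (s⁻¹ * r) := hc
          calc r⁻¹ * s * r = (s⁻¹ * r)⁻¹ * r := by group
            _ = r * (s⁻¹ * r)⁻¹ := (Commute.inv_left hc3).eq
            _ = r * (r⁻¹ * s) := by group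
        rw [hc2]; group
  have h3' : 3 ≤ Fintype.card S.Q := by
    calc 3 = ({1, a, b} : Finset S.Q).card :=
          (Finset.card_eq_three.2 ⟨1, a, b, ha1.symm, hb1.symm, hab.symm, rfl⟩).symm
      _ ≤ _ := Finset.card_le_univ _
  have heven : ∀ h : Fintype.card S.Q = 3, False := fun h => by
    haveI := Fact.mk Nat.prime_three
    obtain ⟨q, hq⟩ := exists_prime_orderOf_dvd_card (G := S.Q) 3 (by rw [h])
    have := (orderOf_dvd_iff_pow_eq_one (n := 2)).2 (Subtype.ext (by
      rw [SubgroupClass.coe_pow, sq]; exact hW q) : q ^ 2 = 1)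
    rw [hq] at this
    norm_num at this
  rw [Nat.card_eq_fintype_card]
  rcases eq_or_ne (Fintype.card S.Q) 3 with h | h
  · exact absurd h heven
  · omega

end Cfsg.Agent.H86.BaseTwo
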