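import Cfsg.Agent.H86.BaseTwo.Assemble
import Cfsg.Agent.H86.BaseTwo.PlanePart
import Cfsg.Agent.H39.Colour.Abelian
import Cfsg.Agent.H67.BaseTwo.Models

/-!
A regular pair for a primitive solvable linear group of order prime to an odd characteristic.
-/

set_option autoImplicit false
set_option linter.unusedSectionVars false
set_option linter.style.haveILetI false

namespace Cfsg.Agent.H86.BaseTwo

open Cfsg.Agent.H86.BaseThree Cfsg.Agent.H52.RegPair

universe u

variable {G : Type u} [Group G] [Finite G] {V : Type u} [AddCommGroup V] [DistribMulAction G V]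
  [Finite V] [Nontrivial V] [FaithfulSMul G V] {K : Type u} [Field K] [Finite K] [Module K V]
  {L : Layer G V K}

/-- With few scalars the squares of the layer are scalars. -/
theorem sq_mem_U (hd : Nat.card Kˣ ∣ 8) {e : G} (he : e ∈ L.E) : e * e ∈ L.U := by
  refine L.center_le _ (L.E.mul_mem he he) fun f hf => ?_
  refine L.commute_of_chi_eq_one (L.E.mul_mem he he) hf ?_
  rw [chi_mul_left L he he hf]
  obtain ⟨N, hN, hU⟩ := L.squarefree e he
  have h1 := chi_pow_eq_one_left L he hf hU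
  have hne : L.chi e f ≠ 0 := fun h => by
    rw [h, zero_pow hN.ne_zero] at h1
    exact zero_ne_one h1
  set c : Kˣ := Units.mk0 _ hne with hc
  have hcN : orderOf c ∣ N := orderOf_dvd_of_pow_eq_one (Units.ext (by push_cast; exact h1))
  obtain ⟨i, hi, hi'⟩ := (Nat.dvd_prime_pow Nat.prime_two (m := 3)).1
    (show orderOf c ∣ 2 ^ 3 from (orderOf_dvd_natCard c).trans (by simpa using hd))
  have hsf : Squarefree (2 ^ i) := hi' ▸ hN.squarefree_of_dvd hcN
  have h2 : orderOf c ∣ 2 := by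
    rw [hi']
    rcases i with _ | _ | i
    · exact one_dvd 2
    · exact dvd_rfl
    · exact absurd (Nat.isUnit_iff.1 (hsf 2 ⟨2 ^ i, by ring⟩)) (by norm_num)
  have h3 := orderOf_dvd_iff_pow_eq_one.1 h2
  rw [sq] at h3
  exact congrArg Units.val h3

theorem card_range_pow (m : ℕ) :
    Nat.card (powMonoidHom (α := Kˣ) m).range = (Nat.card K - 1) / (Nat.card K - 1).gcd m := by
  rw [IsCyclic.card_powMonoidHom_range, Nat.card_units]

theorem prime_eq_two_of_dvd_eight {l : ℕ} (hl : l.Prime) (h : l ∣ 8) : l = 2 :=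
  (Nat.prime_dvd_prime_iff_eq hl Nat.prime_two).1
    (hl.dvd_of_dvd_pow (show l ∣ 2 ^ 3 from by norm_num; exact h))

/-- Three colours are available outside of three small fields. -/
theorem three_le_div_gcd {n : ℕ} (h2 : 2 ∣ n) (hn : 6 ≤ n) (h8 : n ≠ 8) :
    3 ≤ n / n.gcd 4 := by
  have h4 : n.gcd 4 ≤ 4 := Nat.le_of_dvd (by norm_num) (Nat.gcd_dvd_right n 4)
  rw [Nat.le_div_iff_mul_le (Nat.gcd_pos_of_pos_left 4 (by omega))]
  obtain ⟨k, rfl⟩ := h2
  by_cases h : 4 ∣ 2 * k
  · omega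
  · have h2' : (2 * k).gcd 4 ≤ 2 := by
      obtain ⟨i, hi, hi'⟩ := (Nat.dvd_prime_pow Nat.prime_two (m := 2)).1 (Nat.gcd_dvd_right (2 * k) 4)
      rcases i with _ | _ | _ | i
      · rw [hi']; norm_num
      · rw [hi']; norm_num
      · exact absurd (by rw [show (4 : ℕ) = 2 ^ 2 from rfl, ← hi']; exact Nat.gcd_dvd_left _ _) h
      · omega
    omega

/-- The regular pair of a primitive group, given a frame. -/
theorem reg1_of_frame {p : ℕ} [Fact p.Prime] (hp : p ≠ 2) (hG : ¬ p ∣ Nat.card G)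
    (hV : ∀ v : V, p • v = 0) (hlarge : RigidLarge.{u}) (hsmall : RigidSmall.{u})
    (hplanecol : PlaneColour.{u}) (hmodels : SmallModels.{u}) (F : Frame L) : Reg1 G V := by
  classical
  haveI := Fintype.ofFinite K
  have hpP : p.Prime := Fact.out
  haveI : CharP K p := by
    refine (CharP.charP_iff_prime_eq_zero hpP).2 ?_
    refine smul_left_injective K F.ne_zero ?_
    show (p : K) • F.x = (0 : K) • F.x
    rw [Nat.cast_smul_eq_nsmul, hV, zero_smul]
  obtain ⟨f, -, hqp⟩ := FiniteField.card K p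
  rw [← Nat.card_eq_fintype_card] at hqp
  set q := Nat.card K with hq
  have hodd : Odd q := hqp ▸ (hpP.odd_of_ne_two hp).pow
  have hq1 : 1 < q := Finite.one_lt_card
  have hu : Nat.card Kˣ = q - 1 := Nat.card_units K
  obtain ⟨C⟩ := exists_cosets L F.ne_zero
  have hrel : (L.lineCent F.x).relIndex L.E = Nat.card C.T := by
    have hker : C.cls.ker = (L.lineCent F.x).subgroupOf L.E := by
      ext e
      rw [MonoidHom.mem_ker, C.cls_eq_one, Subgroup.mem_subgroupOf]
    rw [Subgroup.relIndex, ← hker, Subgroup.index_ker,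
      MonoidHom.range_eq_top.2 fun t => ⟨C.rep t, C.cls_rep t⟩, Subgroup.card_top]
  -- odd primes
  have hoddpart : ∀ l : ℕ, l.Prime → l ≠ 2 → (∃ t : C.T, orderOf t = l) → Nonempty (Part C l) := by
    intro l hl hl2 ⟨t, ht⟩
    have hlq : l ∣ q - 1 := hu ▸ dvd_card_units C hl ht
    have hlt : 2 < l := lt_of_le_of_ne hl.two_le (Ne.symm hl2)
    have hmem : ∀ s : C.T, s ∈ (powMonoidHom (α := C.T) l).ker ↔ s ^ l = 1 := fun s => by
      rw [MonoidHom.mem_ker, powMonoidHom_apply]
    obtain ⟨κ, S, hS, -, hκS, hκSS, hκπ⟩ := Cfsg.Agent.H39.Colour.Abelian.exists_colouring_two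
      (powMonoidHom (α := C.T) l).ker l hl hl2 fun s => Subtype.ext (by
        rw [SubgroupClass.coe_pow]; exact (hmem _).1 s.2)
    refine exists_part_of_colouring F.ne_zero C hl 1
      (by rw [mul_one]; exact hl.dvd_choose_self (by norm_num) hlt) ?_ _ hmem κ S hS hκS hκSS hκπ
    rw [card_range_pow, mul_one, ← hq, Nat.gcd_eq_right hlq]
    obtain ⟨m, hm⟩ := hlq
    rw [hm, Nat.mul_div_cancel_left m hl.pos]
    by_contra hlt'
    have hm01 : m = 0 ∨ m = 1 := by omega
    rcases hm01 with rfl | rfl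
    · simp at hm; omega
    · rw [mul_one] at hm
      obtain ⟨i, hi⟩ := hodd
      obtain ⟨j, hj⟩ := hl.odd_of_ne_two hl2
      omega
  have hassemble : Nonempty (Part C 2) → Reg1 G V := fun h2 =>
    reg1_of_parts F hodd C fun l hl he =>
      if h : l = 2 then h ▸ h2 else hoddpart l hl h he
  have hqpos : 2 ∣ q - 1 := by obtain ⟨i, hi⟩ := hodd; omega
  by_cases hsmallq : ¬ (q = 3 ∨ q = 5 ∨ q = 9)
  · -- three colours
    refine hassemble ?_
    have hmem : ∀ s : C.T, s ∈ (powMonoidHom (α := C.T) 2).ker ↔ s ^ 2 = 1 := fun s => by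
      rw [MonoidHom.mem_ker, powMonoidHom_apply]
    obtain ⟨κ, S, hS, hκS, hκSS, hκπ⟩ := exists_colouring (powMonoidHom (α := C.T) 2).ker
    refine exists_part_of_colouring F.ne_zero C Nat.prime_two 2 (by decide) ?_ _ hmem κ S hS hκS
      hκSS hκπ
    rw [card_range_pow, ← hq]
    push Not at hsmallq
    exact three_le_div_gcd hqpos (by obtain ⟨i, hi⟩ := hodd; omega) (by omega)
  rw [not_not] at hsmallq
  have hd : Nat.card Kˣ ∣ 8 := by
    rw [hu]; rcases hsmallq with h | h | h <;> rw [h] <;> norm_num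
  have hexp : ∀ e ∈ L.E, e * e ∈ L.U := fun e he => sq_mem_U hd he
  have hT : ∀ t : C.T, t * t = 1 := sq_eq_one C.squarefree_order fun t ht =>
    prime_eq_two_of_dvd_eight ht ((dvd_card_units C ht rfl).trans hd)
  obtain ⟨n, hn⟩ : ∃ n, Nat.card C.T = 2 ^ n := IsPGroup.iff_card.1 fun t => ⟨1, by
    rw [pow_one, sq]; exact hT t⟩
  by_cases h32 : 32 ≤ Nat.card C.T
  · exact hassemble (exists_part_of_rigid F.ne_zero C hT hlarge h32)
  by_cases h2 : Nat.card C.T ≤ 2
  · exact hassemble (exists_part_le_two F.ne_zero C hT h2)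
  have hn4 : n ≤ 4 := by
    by_contra h
    have : 2 ^ 5 ≤ 2 ^ n := Nat.pow_le_pow_right two_pos (by omega)
    omega
  have hn2 : 2 ≤ n := by
    by_contra h
    have : 2 ^ n ≤ 2 ^ 1 := Nat.pow_le_pow_right two_pos (by omega)
    omega
  have hp_of : ∀ r : ℕ, r.Prime → r ∣ q → p = r := fun r hr hrq =>
    ((Nat.prime_dvd_prime_iff_eq hr hpP).1 (hr.dvd_of_dvd_pow (hqp ▸ hrq))).symm
  by_cases h9 : q = 9
  · -- two colours against a group of order prime to three
    obtain rfl : p = 3 := hp_of 3 Nat.prime_three (by rw [h9]; norm_num)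
    have h16 : Nat.card C.T ≤ 16 := by
      rw [hn]; exact (Nat.pow_le_pow_right two_pos hn4).trans (by norm_num)
    refine hassemble (exists_part_small F.ne_zero C hT hsmall h16 hG ?_)
    rw [card_range_pow, ← hq, h9]
    norm_num
  have hq35 : q = 3 ∨ q = 5 := by tauto
  have hpq : q = p := by
    rcases hq35 with h | h
    · rw [h, hp_of 3 Nat.prime_three (by rw [h])]
    · rw [h, hp_of 5 Nat.prime_five (by rw [h])]
  by_cases hsc : ∀ r ∈ L.lineCent F.x, ∃ k : K, r • F.x = k • F.x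
  · have hR : L.lineStab F.x = L.lineCent F.x :=
      le_antisymm (L.lineStab_le_lineCent F.ne_zero) fun r hr => ⟨hr.1, hsc r hr⟩
    have hM := Cfsg.Agent.H67.BaseTwo.model_plus L F hq.symm hq35 hexp hsc (n := n)
      (by rw [hR, hrel, hn]) hn4
    refine hmodels p G V K L ⟨n, false⟩ hG (hq.symm.trans hpq) ?_ hM
    have hn234 : n ∈ ({2, 3, 4} : Finset ℕ) := by
      simp only [Finset.mem_insert, Finset.mem_singleton]; omega
    rcases hq35 with h | h
    · exact Or.inl ⟨hpq ▸ h, rfl, hn234⟩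
    · exact Or.inr (Or.inr ⟨hpq ▸ h, rfl, hn234⟩)
  rcases F.split with h | ⟨r, hr, hry, -, hq4, hplane, hsq, -, hfixed⟩
  · exact absurd h hsc
  have hq3 : q = 3 := by rcases hq35 with h | h <;> omega
  rcases eq_or_ne n 2 with rfl | hn2'
  · exact hmodels p G V K L ⟨3, true⟩ hG (hq.symm.trans hpq)
      (Or.inr (Or.inl ⟨hpq ▸ hq3, rfl, rfl⟩))
      (Cfsg.Agent.H67.BaseTwo.model_minus L F (hq.symm.trans hq3) hexp hsc (n := 2)
        (by rw [hrel, hn]) (by norm_num))
  refine hassemble (exists_part_plane F.ne_zero C hT hplanecol ?_ (hq.symm.trans hq3) hr hry hplane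
    hsq hfixed)
  rw [hn]
  obtain rfl | rfl : n = 3 ∨ n = 4 := by omega
  · exact Or.inl rfl
  · exact Or.inr rfl

/-- The step for primitive modules. -/
theorem primitiveStep_of (hlarge : RigidLarge.{u}) (hsmall : RigidSmall.{u})
    (hplanecol : PlaneColour.{u}) (hmodels : SmallModels.{u}) : PrimitiveStep.{u} := by
  intro p _ hp G _ _ V _ _ _ _ _ hs hG hV hirr hnim
  obtain ⟨K, fK, mK, hK, ⟨L⟩, -⟩ := exists_layer hs hirr hnim
  letI := fK
  letI := mK
  haveI := hK
  obtain ⟨F⟩ := L.exists_frame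
  exact reg1_of_frame hp hG hV hlarge hsmall hplanecol hmodels F

end Cfsg.Agent.H86.BaseTwo
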