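import Cfsg.Agent.H86.BaseTwo.Spec
import Cfsg.Agent.H86.BaseThree.Component

/-!
The second vector for a primitive group is put together from parts, one for each prime, supported on
the cosets of the line centraliser of that order.
-/

set_option autoImplicit false
set_option linter.unusedSectionVars false
set_option linter.style.haveILetI false

namespace Cfsg.Agent.H86.BaseTwo

open Cfsg.Agent.H86.BaseThree

universe u

variable {G : Type u} [Group G] [Finite G] {V : Type u} [AddCommGroup V] [DistribMulAction G V]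
  [Finite V] [Nontrivial V] [FaithfulSMul G V] {K : Type u} [Field K] [Finite K] [Module K V]

/-- The cosets of the centraliser of a line stabiliser in the layer, with representatives. -/
structure Cosets (L : Layer G V K) (x : V) where
  T : Type u
  [comm : CommGroup T]
  [fintype : Fintype T]
  cls : L.E →* T
  cls_eq_one : ∀ e : L.E, cls e = 1 ↔ (e : G) ∈ L.lineCent x
  rep : T → L.E
  cls_rep : ∀ t : T, cls (rep t) = t
  rep_pow : ∀ (t : T) (l : ℕ), l.Prime → orderOf t = l → (rep t : G) ^ l ∈ L.U

attribute [instance] Cosets.comm Cosets.fintype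

variable {L : Layer G V K} {x : V}

/-- The representative, as an element of the group. -/
def Cosets.r (C : Cosets L x) (t : C.T) : G := C.rep t

theorem Cosets.r_mem (C : Cosets L x) (t : C.T) : C.r t ∈ L.E := (C.rep t).2

theorem Cosets.mem_of_cls_eq (C : Cosets L x) {e : G} (he : e ∈ L.E) {t : C.T}
    (h : C.cls ⟨e, he⟩ = t) : (C.r t)⁻¹ * e ∈ L.lineCent x := by
  have := (C.cls_eq_one ((C.rep t)⁻¹ * ⟨e, he⟩)).1 (by
    rw [map_mul, map_inv, C.cls_rep, h, inv_mul_cancel])
  simpa [Cosets.r] using this

/-- An element fixing the line, the field and the plane of the vector, with its action on cosets. -/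
structure Moves (C : Cosets L x) (g : G) (π : C.T ≃* C.T) : Prop where
  fix : g • x = x
  linear : ∀ k : K, L.σ g k = k
  plane : ∀ ρ ∈ L.lineCent x, g • ρ • x = ρ • x
  cls : ∀ (e : G) (he : e ∈ L.E),
    C.cls ⟨g * e * g⁻¹, L.E_normal.conj_mem e he g⟩ = π (C.cls ⟨e, he⟩)

/-- A family of components on the elements of order `l`, rigid, and nonzero often enough to force an
element fixing them to centralise the layer. -/
structure Part (C : Cosets L x) (l : ℕ) where
  w : C.T → V
  mem : ∀ t, w t ∈ L.eig x (C.r t)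
  rigid : ∀ (g : G) (π : C.T ≃* C.T), Moves C g π →
    (∀ t : C.T, orderOf t = l → g • w t = w (π t)) → ∀ t : C.T, orderOf t = l → π t = t
  fixed : ∃ Φ Gen : Set C.T, Gen ⊆ Φ ∧ (∀ t : C.T, orderOf t = l → t ∈ Subgroup.closure Gen) ∧
    (∀ u ∈ Gen, orderOf u = l ∧
      ∀ t : C.T, orderOf t = l → t ∈ Subgroup.closure {v : C.T | v ∈ Φ ∧ (u * v ∈ Φ ∨ u * v = 1)}) ∧
    ∀ (g : G) (π : C.T ≃* C.T), Moves C g π → (∀ t : C.T, π t = t) →
      (∀ t : C.T, orderOf t = l → g • w t = w t) → ∀ t ∈ Φ, g • C.r t • x = C.r t • x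

end Cfsg.Agent.H86.BaseTwo
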