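import Cfsg.Agent.H86.BaseTwo.Primitive
import Cfsg.Agent.H67.BaseTwo.PlaneColour
import Cfsg.Agent.H60.BaseTwo.Main
import Cfsg.Agent.H39.Colour.Three
import Cfsg.Agent.H39.BaseThree.Colour

/-!
Two vectors with trivial common stabiliser, given the rigid sets and the small certificates.
-/

set_option autoImplicit false

namespace Cfsg.Agent.H86.BaseTwo

universe u

theorem planeColour : PlaneColour.{u} := fun T Q _ _ _ _ hT hT' hQ hQ' =>
  Cfsg.Agent.H67.BaseTwo.exists_plane_colour T Q hT hT' hQ hQ'

theorem main_of (hlarge : RigidLarge.{u}) (hsmall : RigidSmall.{u}) (hmodels : SmallModels.{u}) :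
    Main.{u} :=
  Cfsg.Agent.H60.BaseTwo.main Cfsg.Agent.H39.BaseThree.colourAll
    (Cfsg.Agent.H39.Colour.Three.colourAll3 hlarge hsmall)
    (primitiveStep_of hlarge hsmall planeColour hmodels)

end Cfsg.Agent.H86.BaseTwo
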